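/-
Data for the facts on 2^11 : M24 (project SGJ4, file NFacts): lower-bound certificates for the orders
of two permutation groups on the 24 points, and change-of-basis matrices.
-/
import Cfsg.Agent.H14.Chain2

set_option autoImplicit false

namespace Cfsg.Agent.H81.J4

open Cfsg.Agent.H14

def sexGens : List ℕ := [nat_lit 0x2ae95435cf84647b10d3626ea10c01, nat_lit 0x7264d854b345e8a332cf22e2708062, nat_lit 0xb9a954362f83a4c4a9733d8a400443, nat_lit 0xbae4d8563343a8cb28cf3a4a410c01, nat_lit 0x8da957b6e89964c5a930399c410c01, nat_lit 0x2da4d455cf8468c5a93339ae408062, nat_lit 0x8dab27b5d385e874a8c822cac18402, nat_lit 0x56cb6182720933a21aa8486f2ba37, nat_lit 0x60d106bc9491e771141570551b2cc9, nat_lit 0x9d6cbb9a1173d20a0da50c902510ec, nat_lit 0x29106bc3490a693d995590662ba37, nat_lit 0x256cb118e10312ea15a38c95744e0f]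
def sexCertL0 : Lev := ⟨nat_lit 0, nat_lit 0xffffff, (.node (nat_lit 12) (.node (nat_lit 6) (.node (nat_lit 3) (.node (nat_lit 1) (.leaf (nat_lit 0xbdab49ca307b9ac5a928398a418820)) (.node (nat_lit 2) (.leaf (nat_lit 0x2ae95435cf84647b10d3626ea10c01)) (.leaf (nat_lit 0x7264d854b345e8a332cf22e2708062)))) (.node (nat_lit 4) (.leaf (nat_lit 0xb9a954362f83a4c4a9733d8a400443)) (.node (nat_lit 5) (.leaf (nat_lit 0x8492672e65ba2c2686911d5e061c8a)) (.leaf (nat_lit 0x1d0c96584720568ace4a7b4102ba37))))) (.node (nat_lit 9) (.node (nat_lit 7) (.leaf (nat_lit 0x38a6f941556b1051dc348808e5d926)) (.node (nat_lit 8) (.leaf (nat_lit 0x451762a5ee8c0c1a8a570366322987)) (.leaf (nat_lit 0x250c90d8e21b16ea96408b5579a1f0)))) (.node (nat_lit 10) (.leaf (nat_lit 0x60d106bc9491e771141570551b2cc9)) (.node (nat_lit 11) (.leaf (nat_lit 0x450c9bd9f174163a824513661510ec)) (.leaf (nat_lit 0x505f3a20eda920e04452b8d8549976))))))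 (.node (nat_lit 18) (.node (nat_lit 15) (.node (nat_lit 13) (.leaf (nat_lit 0x9d6cbb9a1173d20a0da50c902510ec)) (.node (nat_lit 14) (.leaf (nat_lit 0x4a062b84ce8ac0d85665a3ed251c8c)) (.leaf (nat_lit 0x1492652c64382d06be8c9d4288dcae)))) (.node (nat_lit 16) (.leaf (nat_lit 0x256cb118e10312ea15a38c95744e0f)) (.node (nat_lit 17) (.leaf (nat_lit 0x551761a58009cd1ade42734859a1f0)) (.leaf (nat_lit 0xd1763a40c50cc8ace447b450bc5c5))))) (.node (nat_lit 21) (.node (nat_lit 19) (.leaf (nat_lit 0x72061482eb344449a9f6640a7ad24d)) (.node (nat_lit 20) (.leaf (nat_lit 0x3c92602c8312ad76c6812d58e7c268)) (.leaf (nat_lit 0x8cc40304b64b86a4120b3beeca55b2)))) (.node (nat_lit 22) (.leaf (nat_lit 0x5cc01b8ace8a4727d105ac0cd51c8c)) (.node (nat_lit 23) (.leaf (nat_lit 0x6026f9409569d170947470951326cb)) (.leaf (nat_lit 0x56cb6182720933a21aa8486f2ba37)))))))⟩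
def sexCertC0 : LevCert := ⟨sexCertL0,
    [(nat_lit 1, nat_lit 0), (nat_lit 2, nat_lit 1), (nat_lit 3, nat_lit 2), (nat_lit 23, nat_lit 7), (nat_lit 9, nat_lit 8), (nat_lit 12, nat_lit 9), (nat_lit 15, nat_lit 11), (nat_lit 17, nat_lit 7), (nat_lit 6, nat_lit 8), (nat_lit 7, nat_lit 9), (nat_lit 16, nat_lit 11), (nat_lit 14, nat_lit 7), (nat_lit 11, nat_lit 8), (nat_lit 4, nat_lit 9), (nat_lit 19, nat_lit 11), (nat_lit 5, nat_lit 7), (nat_lit 22, nat_lit 8), (nat_lit 10, nat_lit 9), (nat_lit 8, nat_lit 11), (nat_lit 13, nat_lit 7), (nat_lit 18, nat_lit 8), (nat_lit 20, nat_lit 8), (nat_lit 21, nat_lit 7)],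
    [[nat_lit 4, nat_lit 16, nat_lit 18, nat_lit 20, nat_lit 4, nat_lit 18, nat_lit 18, nat_lit 6, nat_lit 22, nat_lit 4, nat_lit 2], [nat_lit 4, nat_lit 16, nat_lit 14, nat_lit 24, nat_lit 14, nat_lit 20, nat_lit 22, nat_lit 22]],
    [nat_lit 0x41cd66a6759416564494ba9ee10460, nat_lit 0xbc92642cb383ac76b28f2562a08860]⟩
def sexCertL1 : Lev := ⟨nat_lit 4, nat_lit 0xfffff0, (.node (nat_lit 14) (.node (nat_lit 9) (.node (nat_lit 6) (.node (nat_lit 5) (.leaf (nat_lit 0xbdab49ca307b9ac5a928398a418820)) (.leaf (nat_lit 0x3d2682c191729e992eb7b348610460))) (.node (nat_lit 7) (.leaf (nat_lit 0x432c692e746c12e3dd55891e510460)) (.node (nat_lit 8) (.leaf (nat_lit 0xbc92642cb383ac76b28f2562a08860)) (.leaf (nat_lit 0xb3a133bd2c519142cae4ac56d08860))))) (.node (nat_lit 11) (.node (nat_lit 10) (.leaf (nat_lit 0x41cd66a6759416564494ba9ee10460)) (.leaf (nat_lit 0xbb4c9858af4396a912b36522708860))) (.node (nat_lit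 12) (.leaf (nat_lit 0x8292b919f46a2c524595b9e6e10460)) (.node (nat_lit 13) (.leaf (nat_lit 0xbae957b6289ba44b1cd0524ac18820)) (.leaf (nat_lit 0x7d14c31e164cc976c64b7550508c40)))))) (.node (nat_lit 19) (.node (nat_lit 16) (.node (nat_lit 15) (.leaf (nat_lit 0x520ae5c4e6b12f59d20993d8d10c20)) (.leaf (nat_lit 0xb22376396a218b27b607a4d3518820))) (.node (nat_lit 17) (.leaf (nat_lit 0x938c93da8463573bbe2a416b008860)) (.node (nat_lit 18) (.leaf (nat_lit 0x3c2adbc8858aa967a50e34d8b18440)) (.leaf (nat_lit 0xa5d47591a64d58f2cdd64465008c40))))) (.node (nat_lit 21) (.node (nat_lit 20) (.leaf (nat_lit 0x5bab4248ca3d9a8bc0ac7c53318820)) (.leaf (nat_lit 0x35d846aad5a24f08a1d27957318440))) (.node (nat_lit 22) (.leaf (nat_lit 0x4248aa31edac0f7596d271a7118440)) (.node (nat_lit 23) (.leaf (nat_lit 0x792b2b51095cdb139546bb20e10c20)) (.leaf (nat_lit 0x2562e45cf07b0aba25b3b494610c20)))))))⟩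
def sexCertC1 : LevCert := ⟨sexCertL1,
    [(nat_lit 9, nat_lit 0), (nat_lit 7, nat_lit 1), (nat_lit 18, nat_lit 0), (nat_lit 21, nat_lit 1), (nat_lit 22, nat_lit 0), (nat_lit 12, nat_lit 1), (nat_lit 15, nat_lit 0), (nat_lit 16, nat_lit 0), (nat_lit 6, nat_lit 1), (nat_lit 20, nat_lit 0), (nat_lit 13, nat_lit 1), (nat_lit 11, nat_lit 0), (nat_lit 10, nat_lit 1), (nat_lit 5, nat_lit 0), (nat_lit 8, nat_lit 1), (nat_lit 14, nat_lit 0), (nat_lit 19, nat_lit 0), (nat_lit 17, nat_lit 1), (nat_lit 23, nat_lit 0)],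
    [[nat_lit 0, nat_lit 0, nat_lit 0, nat_lit 2, nat_lit 0, nat_lit 0, nat_lit 2, nat_lit 2, nat_lit 2], [nat_lit 2, nat_lit 2, nat_lit 2, nat_lit 2, nat_lit 4, nat_lit 2, nat_lit 4], [nat_lit 6, nat_lit 4, nat_lit 6, nat_lit 4, nat_lit 4, nat_lit 4, nat_lit 6]],
    [nat_lit 0x9d1268d9f7741676b2455550410460, nat_lit 0x721696da34a94c77b21254ee418820, nat_lit 0xa4ec6726578d56c41de5541a410c20]⟩
def sexCertL2 : Lev := ⟨nat_lit 5, nat_lit 0xffeb60, (.node (nat_lit 16) (.node (nat_lit 11) (.node (nat_lit 8) (.node (nat_lit 6) (.leaf (nat_lit 0xbdab49ca307b9ac5a928398a418820)) (.leaf (nat_lit 0x5de557b6d341a8c89dd05152410c20))) (.node (nat_lit 9) (.leaf (nat_lit 0x9d1268d9f7741676b2455550410460)) (.leaf (nat_lit 0x9c52ba590dac0cabb0b23b9e408860)))) (.node (nat_lit 14) (.node (nat_lit 13) (.leaf (nat_lit 0x3469584ad37a5a72a9c865d6408860)) (.leaf (nat_lit 0x855d7b45e64ccac69e4b5510410c20))) (.node (nat_lit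 15) (.leaf (nat_lit 0x721696da34a94c77b21254ee418820)) (.leaf (nat_lit 0x6a6138a2ae2d1ea31ed762e4410460))))) (.node (nat_lit 20) (.node (nat_lit 18) (.node (nat_lit 17) (.leaf (nat_lit 0x3428d8c965ba6ac9a90e3bec410460)) (.leaf (nat_lit 0x8cecbaa4ada38cc7a9123c2e408c40))) (.node (nat_lit 19) (.leaf (nat_lit 0x5caf179530419ccaaa933b6c408c40)) (.leaf (nat_lit 0x4b5132c2ce8ade792ab7650c410c20)))) (.node (nat_lit 22) (.node (nat_lit 21) (.leaf (nat_lit 0x84ae53450b4bdc7aa9b66526408860)) (.leaf (nat_lit 0x92cb145e907b5cab313339aa408860))) (.node (nat_lit 23) (.leaf (nat_lit 0x815b25d1e64a2aa71ef66466410460)) (.leaf (nat_lit 0x2c9f0322295de6aa9e96635c418820))))))⟩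
def sexCertC2 : LevCert := ⟨sexCertL2,
    [(nat_lit 8, nat_lit 0), (nat_lit 14, nat_lit 1), (nat_lit 22, nat_lit 1), (nat_lit 11, nat_lit 2), (nat_lit 15, nat_lit 0), (nat_lit 23, nat_lit 1), (nat_lit 19, nat_lit 2), (nat_lit 18, nat_lit 0), (nat_lit 21, nat_lit 2), (nat_lit 13, nat_lit 0), (nat_lit 17, nat_lit 0), (nat_lit 9, nat_lit 2), (nat_lit 16, nat_lit 0), (nat_lit 6, nat_lit 1), (nat_lit 20, nat_lit 1)],
    [[nat_lit 0, nat_lit 2, nat_lit 2, nat_lit 0, nat_lit 0, nat_lit 2, nat_lit 0, nat_lit 2, nat_lit 2, nat_lit 0, nat_lit 0, nat_lit 0, nat_lit 2, nat_lit 2, nat_lit 4, nat_lit 2], [nat_lit 4, nat_lit 2, nat_lit 6, nat_lit 4, nat_lit 6, nat_lit 6, nat_lit 2, nat_lit 2, nat_lit 6, nat_lit 6, nat_lit 6, nat_lit 4, nat_lit 6, nat_lit 6, nat_lit 4, nat_lit 6, nat_lit 4], [nat_lit 4, nat_lit 8, nat_lit 8, nat_lit 8, nat_lit 4, nat_lit 4]],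
    [nat_lit 0xba613a3dd5945075aacd618a408860, nat_lit 0xbc2954c9d6345ac41e6b53ca418440, nat_lit 0x719f094e34add0a5b12d3d8a418440]⟩
def sexCertL3 : Lev := ⟨nat_lit 1, nat_lit 14, (.node (nat_lit 2) (.leaf (nat_lit 0xbdab49ca307b9ac5a928398a418820)) (.node (nat_lit 3) (.leaf (nat_lit 0xbc2954c9d6345ac41e6b53ca418440)) (.leaf (nat_lit 0xba613a3dd5945075aacd618a408860))))⟩
def sexCertC3 : LevCert := ⟨sexCertL3,
    [(nat_lit 3, nat_lit 0), (nat_lit 2, nat_lit 1)],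
    [[nat_lit 0, nat_lit 2, nat_lit 0, nat_lit 4, nat_lit 2, nat_lit 4, nat_lit 4], [nat_lit 4, nat_lit 4, nat_lit 2, nat_lit 4, nat_lit 2, nat_lit 4, nat_lit 6]],
    [nat_lit 0x8da6fac2f2a390c59ccd524a410c20, nat_lit 0x73e5435629b5da742a0b64ca410c20]⟩
def sexCertL4 : Lev := ⟨nat_lit 2, nat_lit 12, (.node (nat_lit 3) (.leaf (nat_lit 0xbdab49ca307b9ac5a928398a418820)) (.leaf (nat_lit 0x8da6fac2f2a390c59ccd524a410c20)))⟩
def sexCertC4 : LevCert := ⟨sexCertL4,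
    [(nat_lit 3, nat_lit 0)],
    [[nat_lit 0, nat_lit 2]],
    [nat_lit 0x7520f4cee6b450a69e4b654a418820]⟩
def sexCertL5 : Lev := ⟨nat_lit 6, nat_lit 0x210040, (.node (nat_lit 16) (.leaf (nat_lit 0xbdab49ca307b9ac5a928398a418820)) (.node (nat_lit 21) (.leaf (nat_lit 0x7520f4cee6b450a69e4b654a418820)) (.leaf (nat_lit 0x8bcd6925d5a5d674326d540a418820))))⟩
def sexCertC5 : LevCert := ⟨sexCertL5,
    [(nat_lit 16, nat_lit 0), (nat_lit 21, nat_lit 0)],
    [],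
    []⟩
def sexCert : List LevCert := [sexCertC0, sexCertC1, sexCertC2, sexCertC3, sexCertC4, sexCertC5]
def sexCertL : List Lev := [sexCertL0, sexCertL1, sexCertL2, sexCertL3, sexCertL4, sexCertL5]

theorem sexCert_ok : preOK (nat_lit 5) (nat_lit 32) (nat_lit 24) sexCert sexGens = true := by
  decide +kernel
theorem sexCert_card : chainCard (nat_lit 24) (sexCert.map LevCert.L) = 138240 := by decide +kernel

def hexGens : List ℕ := [nat_lit 0xbd90114a30238ec48d75694cf54e80, nat_lit 0xbda954ca30538ac13e6131da322d00, nat_lit 0xbd94f3ca30a384c2d4c39a56143480, nat_lit 0xbd8ad24a3013a8c52c660a2b34bce0, nat_lit 0x59147ca309b1ae52c75394c249037, nat_lit 0x58656ca2e7c26c59c8251a89aa037, nat_lit 0x5ab44ca111b8ec11268694ca7ac37, nat_lit 0x58679c6507b9ac31509a2d42a9037, nat_lit 0x491455a305b8ec7cc95698a910c37]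
def hexCertL0 : Lev := ⟨nat_lit 1, nat_lit 0x38affe, (.node (nat_lit 9) (.node (nat_lit 5) (.node (nat_lit 3) (.node (nat_lit 2) (.leaf (nat_lit 0xbdab49ca307b9ac5a928398a418820)) (.leaf (nat_lit 0x588d2ca2e5412c1186b79eb3a0517))) (.node (nat_lit 4) (.leaf (nat_lit 0xbd9ea34a30ab96c6d0e44cc4809460)) (.leaf (nat_lit 0xbd94f3ca30a384c2d4c39a56143480)))) (.node (nat_lit 7) (.node (nat_lit 6) (.leaf (nat_lit 0x59463ca2e2404c4b5f31942b45697)) (.leaf (nat_lit 0xbd9a51ca305baac78887406899a8c0))) (.node (nat_lit 8) (.leaf (nat_lit 0xbd8ad24a3013a8c52c660a2b34bce0)) (.leaf (nat_lit 0xbda954ca30538ac13e6131da322d00))))) (.node (nat_lit 15) (.node (nat_lit 11) (.node (nat_lit 10) (.leaf (nat_lit 0x58864c650538ac3b433a89eba0d17)) (.leaf (nat_lit 0x594f34a1143a6c684e312d35a1497))) (.node (nat_lit 13) (.leaf (nat_lit 0x494445a303384c0b6839ad253d5f7)) (.leaf (nat_lit 0xbd8c77ca309b82c1a545a5502591a0)))) (.node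 (nat_lit 20) (.node (nat_lit 19) (.leaf (nat_lit 0xbd8646ca300ba6c320aa12d34a9de0)) (.leaf (nat_lit 0xbd9620ca306b9eca950920d4735260))) (.node (nat_lit 21) (.leaf (nat_lit 0xbd90114a30238ec48d75694cf54e80)) (.leaf (nat_lit 0xbd8285ca301b8cc990542b4ea7a6a0))))))⟩
def hexCertC0 : LevCert := ⟨hexCertL0,
    [(nat_lit 20, nat_lit 0), (nat_lit 8, nat_lit 1), (nat_lit 4, nat_lit 2), (nat_lit 7, nat_lit 3), (nat_lit 21, nat_lit 1), (nat_lit 15, nat_lit 2), (nat_lit 13, nat_lit 3), (nat_lit 5, nat_lit 5), (nat_lit 3, nat_lit 2), (nat_lit 6, nat_lit 3), (nat_lit 2, nat_lit 5), (nat_lit 9, nat_lit 7), (nat_lit 19, nat_lit 3), (nat_lit 10, nat_lit 6), (nat_lit 11, nat_lit 8)],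
    [[nat_lit 4, nat_lit 6, nat_lit 16, nat_lit 10, nat_lit 2, nat_lit 6, nat_lit 0, nat_lit 8, nat_lit 2], [nat_lit 2, nat_lit 6, nat_lit 2, nat_lit 10, nat_lit 14, nat_lit 8, nat_lit 4, nat_lit 6, nat_lit 10, nat_lit 16, nat_lit 8]],
    [nat_lit 0x48655da2e3b1506bd029d0d549037, nat_lit 0xbd9ed4c2511b8ec29913a088baa820]⟩
def hexCertL1 : Lev := ⟨nat_lit 0, nat_lit 0x800001, (.node (nat_lit 23) (.leaf (nat_lit 0xbdab49ca307b9ac5a928398a418820)) (.leaf (nat_lit 0x48655da2e3b1506bd029d0d549037)))⟩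
def hexCertC1 : LevCert := ⟨hexCertL1,
    [(nat_lit 23, nat_lit 0)],
    [[nat_lit 0, nat_lit 2, nat_lit 2, nat_lit 0], [nat_lit 2, nat_lit 4, nat_lit 2, nat_lit 4]],
    [nat_lit 0xbc4edac9cc5409628d1414de959820, nat_lit 0xbb8b45b25614111229e6ab4f31a420]⟩
def hexCertL2 : Lev := ⟨nat_lit 2, nat_lit 0x38affc, (.node (nat_lit 9) (.node (nat_lit 5) (.node (nat_lit 3) (.leaf (nat_lit 0xbdab49ca307b9ac5a928398a418820)) (.node (nat_lit 4) (.leaf (nat_lit 0xbb1153da305b952325b423c7311420)) (.leaf (nat_lit 0xbb0a63c6d253970a8db4791229a020)))) (.node (nat_lit 7) (.node (nat_lit 6) (.leaf (nat_lit 0xbc1ed2da513328e48d53390555a020)) (.leaf (nat_lit 0xbb26834ace2c6901bc89a896d51c20))) (.node (nat_lit 8) (.leaf (nat_lit 0xbc4edac9cc5409628d1414de959820)) (.leaf (nat_lit 0xbc5681c24c3b9366bca29d2a651020))))) (.node (nat_lit 15) (.node (nat_lit 11) (.node (nat_lit 10) (.leaf (nat_lit 0xbc0f42458e4d8d29a84d2a2ab1bc20))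 (.leaf (nat_lit 0xbc48a459d24c26c18a9529d6d33c20))) (.node (nat_lit 13) (.leaf (nat_lit 0xbc8f47d98e1c6b012e6d414ca49020)) (.leaf (nat_lit 0xbd9eb2c5d01c84c4ce8641d4da9020)))) (.node (nat_lit 20) (.node (nat_lit 19) (.leaf (nat_lit 0xbb8b45b25614111229e6ab4f31a420)) (.leaf (nat_lit 0xbc0c9149915d90e515a499c747d420))) (.node (nat_lit 21) (.leaf (nat_lit 0xbb9027c64c9c1b6554cb2147449c20)) (.leaf (nat_lit 0xbb8443ca161b1317ae8d355482cc20))))))⟩
def hexCertC2 : LevCert := ⟨hexCertL2,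
    [(nat_lit 7, nat_lit 0), (nat_lit 15, nat_lit 1), (nat_lit 21, nat_lit 0), (nat_lit 5, nat_lit 1), (nat_lit 9, nat_lit 1), (nat_lit 19, nat_lit 0), (nat_lit 11, nat_lit 0), (nat_lit 4, nat_lit 0), (nat_lit 6, nat_lit 0), (nat_lit 3, nat_lit 0), (nat_lit 13, nat_lit 0), (nat_lit 8, nat_lit 1), (nat_lit 10, nat_lit 0), (nat_lit 20, nat_lit 0)],
    [[nat_lit 0, nat_lit 2, nat_lit 0, nat_lit 0, nat_lit 0, nat_lit 0, nat_lit 2, nat_lit 2], [nat_lit 4, nat_lit 4, nat_lit 2, nat_lit 2, nat_lit 4, nat_lit 2]],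
    [nat_lit 0xbb1f3a4232ab916218ed4a8ab18820, nat_lit 0xbc5e65320e9d8b2454eba248368820]⟩
def hexCertL3 : Lev := ⟨nat_lit 3, nat_lit 0x2938, (.node (nat_lit 8) (.node (nat_lit 4) (.leaf (nat_lit 0xbdab49ca307b9ac5a928398a418820)) (.node (nat_lit 5) (.leaf (nat_lit 0xbc5e65320e9d8b2454eba248368820)) (.leaf (nat_lit 0xbc269ac9d65448c5be8831c6d28820)))) (.node (nat_lit 11) (.leaf (nat_lit 0xbc1f54c5963488e2cce35510d58820)) (.node (nat_lit 13) (.leaf (nat_lit 0xbca6a33a0c7d9711a6853d48868820)) (.leaf (nat_lit 0xbb9477b2d1ac07244ccb4d1a520820)))))⟩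
def hexCertC3 : LevCert := ⟨hexCertL3,
    [(nat_lit 4, nat_lit 1), (nat_lit 11, nat_lit 0), (nat_lit 5, nat_lit 1), (nat_lit 8, nat_lit 1), (nat_lit 13, nat_lit 1)],
    [[nat_lit 2, nat_lit 2, nat_lit 0, nat_lit 2, nat_lit 2], [nat_lit 4, nat_lit 2, nat_lit 4, nat_lit 2, nat_lit 4]],
    [nat_lit 0xbc92655a2c3b9706cea47d0a818820, nat_lit 0xbb1f3a4232ab916218ed4a8ab18820]⟩
def hexCertL4 : Lev := ⟨nat_lit 4, nat_lit 0x2910, (.node (nat_lit 11) (.node (nat_lit 8) (.leaf (nat_lit 0xbdab49ca307b9ac5a928398a418820)) (.leaf (nat_lit 0xbc92655a2c3b9706cea47d0a818820))) (.node (nat_lit 13) (.leaf (nat_lit 0xbb1f3a4232ab916218ed4a8ab18820)) (.leaf (nat_lit 0xbc0ea332364b892451ebaccad18820))))⟩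
def hexCertC4 : LevCert := ⟨hexCertL4,
    [(nat_lit 8, nat_lit 0), (nat_lit 11, nat_lit 1), (nat_lit 13, nat_lit 1)],
    [],
    []⟩
def hexCert : List LevCert := [hexCertC0, hexCertC1, hexCertC2, hexCertC3, hexCertC4]
def hexCertL : List Lev := [hexCertL0, hexCertL1, hexCertL2, hexCertL3, hexCertL4]

theorem hexCert_ok : preOK (nat_lit 5) (nat_lit 32) (nat_lit 24) hexCert hexGens = true := by
  decide +kernel
theorem hexCert_card : chainCard (nat_lit 24) (hexCert.map LevCert.L) = 11520 := by decide +kernel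

def bN : ℕ := nat_lit 0x8c77da8bc6000ee9f090606683888c342
def cN' : ℕ := nat_lit 0x53260d68d6ba47c6d65464444345786e0000
def bH : ℕ := nat_lit 0x93b40c1dd08d29f01c82f41232109a1a8056
def cH : ℕ := nat_lit 0xd12b31aa1cfafbf08b7ddf7149abab45018e
/-- field `i`: syndrome of the point with number `i` -/
def sy : ℕ := nat_lit 0x800400200100080040020010008004002001e3ab1d7b43da1edeccb669b36e3d4b49fc75

end Cfsg.Agent.H81.J4
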