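import Cfsg.Agent.H24.PrimeDegree4
import Cfsg.Agent.H16.Simple
import Cfsg.Agent.H36.Simple
import Cfsg.Agent.H36.Prime
import Cfsg.Agent.H36.Perm
import Cfsg.Agent.H2.MinNormal
import Cfsg.Agent.H26.SmallSupp
import Cfsg.Agent.H78.PermSmall
import Cfsg.Agent.S0678
import Cfsg.Agent.S0732
import Cfsg.Agent.S0494

set_option autoImplicit false

namespace Cfsg.Agent.H81

open MulAction Equiv Equiv.Perm
open scoped Pointwise

section
variable {G : Type*} [Group G] [Finite G] {α : Type*} [Fintype α] [MulAction G α]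

theorem card_of_solvable_prime_degree [FaithfulSMul G α] [IsPretransitive G α] {p : ℕ}
    (hp : p.Prime) (hα : Fintype.card α = p) (hG : Group.IsSolvable G) :
    ∃ k, k ∣ p - 1 ∧ Nat.card G = p * k := by
  have := Fact.mk hp
  obtain ⟨P⟩ : Nonempty (Sylow p G) := inferInstance
  have hP := H24.card_sylow_eq hα P
  have : Nontrivial G := by
    obtain ⟨σ, -, h⟩ := H24.exists_orderOf_eq_of_transitive (G := G) hα
    exact ⟨σ, 1, h⟩
  obtain ⟨M, r, hr, hMn, hM, -, hMr, -, -⟩ := H2.exists_minimal_normal_of_solvable (G := G)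
  have := Fact.mk hr
  have h1 := H24.dvd_card_of_normal hα M hM
  obtain ⟨n, hn⟩ := hMr.exists_card_eq
  have hpr : p = r := by
    rw [hn] at h1
    exact (Nat.prime_dvd_prime_iff_eq hp hr).1 (hp.dvd_of_dvd_pow h1)
  subst hpr
  have h2 : M ≤ P := hMr.le_sylow_of_normal P
  have h3 : M = P := Subgroup.eq_of_le_of_card_ge h2 (by
    rw [hP]; exact Nat.le_of_dvd Nat.card_pos h1)
  obtain ⟨k, hk, hN⟩ := H24.card_normalizer_eq hα P
  refine ⟨k, hk, ?_⟩
  rw [← hN, ← h3, Subgroup.normalizer_eq_top, Subgroup.card_top]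

theorem card_or_two_trans [FaithfulSMul G α] [IsPretransitive G α] {p : ℕ}
    (hp : p.Prime) (hα : Fintype.card α = p) :
    (∃ k, k ∣ p - 1 ∧ Nat.card G = p * k) ∨ IsMultiplyPretransitive G α 2 := by
  have := Fact.mk hp
  obtain ⟨P⟩ : Nonempty (Sylow p G) := inferInstance
  obtain ⟨σ, e, -, -, -, he, -, -⟩ := H24.exists_coord_sylow hα P
  by_cases h : ∀ g : G, ∃ a b : ZMod p, ∀ x, e (g • x) = a * e x + b
  · exact Or.inl (card_of_solvable_prime_degree hp hα (H24.isSolvable_of_affine e h))
  · exact Or.inr (H24.two_transitive_of_not_affine e σ he h)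

theorem transitive_of_prime_dvd [FaithfulSMul G α] {p : ℕ} (hp : p.Prime)
    (hα : Fintype.card α = p) (h : p ∣ Nat.card G) : IsPretransitive G α := by
  have := Fact.mk hp
  obtain ⟨x, hx⟩ := exists_prime_orderOf_dvd_card' (G := G) p h
  have h1 := H16.transitive_of_card_prime (G := G) (α := α) hp
    (by rw [Nat.card_eq_fintype_card, hα]) (Subgroup.zpowers x) (by rw [Nat.card_zpowers, hx])
  exact ⟨fun a b => by
    obtain ⟨g, hg⟩ := h1.exists_smul_eq a b
    exact ⟨g, hg⟩⟩

omit [Finite G] [Fintype α] in
theorem faithful_ofStabilizer [FaithfulSMul G α] (a : α) :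
    FaithfulSMul (stabilizer G a) (SubMulAction.ofStabilizer G a) := by
  refine ⟨fun {x y} h => Subtype.ext (FaithfulSMul.eq_of_smul_eq_smul (α := α) fun b => ?_)⟩
  by_cases hb : b = a
  · subst hb
    rw [x.2, y.2]
  · exact congrArg Subtype.val (h ⟨b, hb⟩)

theorem s732_action [FaithfulSMul G α] [IsPretransitive G α] {p d : ℕ} (hp : p.Prime)
    (hα : Fintype.card α = p + 1) (hG : Nat.card G = (p + 1) * p * d) (hd : d < p) :
    d = p - 1 ∨ (2 * d = p - 1 ∧
      Nonempty (G ≃* Matrix.ProjectiveSpecialLinearGroup (Fin 2) (ZMod p))) ∨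
      ∃ q : ℕ, p + 1 = 2 ^ q := by
  classical
  have e : G ≃* (toPermHom G α).range := MonoidHom.ofInjective toPerm_injective
  have : IsPretransitive (toPermHom G α).range α := ⟨fun a b => by
    obtain ⟨g, hg⟩ := exists_smul_eq G a b
    exact ⟨⟨_, g, rfl⟩, hg⟩⟩
  rcases S0732.result hp hα (toPermHom G α).range (by rw [← hG]; exact (Nat.card_congr e.toEquiv).symm) hd
    with h | ⟨h, ⟨f⟩⟩ | ⟨q, -, h, -⟩
  · exact Or.inl h.1
  · exact Or.inr (Or.inl ⟨h, ⟨e.trans f⟩⟩)
  · exact Or.inr (Or.inr ⟨q, h⟩)

/-- A transitive group of degree 12 with order divisible by 11 has order divisible by 5. -/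
theorem five_dvd_of_degree_twelve [FaithfulSMul G α] [IsPretransitive G α]
    (hα : Fintype.card α = 12) (h : 11 ∣ Nat.card G) : 5 ∣ Nat.card G := by
  classical
  by_contra h5
  obtain ⟨a⟩ : Nonempty α := Fintype.card_pos_iff.1 (by omega)
  have h1 := H16.card_eq_of_transitive (G := G) a
  rw [Nat.card_eq_fintype_card (α := α), hα] at h1
  have := faithful_ofStabilizer (G := G) a
  have hβ : Fintype.card (SubMulAction.ofStabilizer G a) = 11 := by
    rw [← Nat.card_eq_fintype_card, SubMulAction.nat_card_ofStabilizer_eq,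
      Nat.card_eq_fintype_card, hα]
  have h2 : 11 ∣ Nat.card (stabilizer G a) := by omega
  have := transitive_of_prime_dvd (by norm_num) hβ h2
  rcases card_or_two_trans (G := stabilizer G a) (by norm_num) hβ with ⟨k, hk, h3⟩ | h3
  · have hk' : k ≤ 10 := Nat.le_of_dvd (by norm_num) hk
    rcases s732_action (G := G) (α := α) (p := 11) (d := k) (by norm_num) hα (by omega) (by omega)
      with h4 | ⟨h4, -⟩ | ⟨q, h4⟩
    · omega
    · omega
    · have : (3 : ℕ) ∣ 2 ^ q := by rw [← h4]; norm_num
      have := (Nat.prime_three.dvd_of_dvd_pow this)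
      omega
  · have h4 := H24.descFactorial_dvd_card (G := stabilizer G a)
      (α := SubMulAction.ofStabilizer G a) 2 (by omega)
    rw [hβ, show Nat.descFactorial 11 2 = 110 by decide] at h4
    omega

/-- A transitive group of degree 13 with order divisible by 11 has order divisible by 5. -/
theorem five_dvd_of_degree_thirteen [FaithfulSMul G α] [IsPretransitive G α]
    (hα : Fintype.card α = 13) (h : 11 ∣ Nat.card G) : 5 ∣ Nat.card G := by
  classical
  obtain ⟨a⟩ : Nonempty α := Fintype.card_pos_iff.1 (by omega)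
  have h1 := H16.card_eq_of_transitive (G := G) a
  rw [Nat.card_eq_fintype_card (α := α), hα] at h1
  rcases card_or_two_trans (G := G) (by norm_num) hα with ⟨k, hk, h3⟩ | h3
  · have hk' : k ≤ 12 := Nat.le_of_dvd (by norm_num) hk
    interval_cases k <;> omega
  · have := faithful_ofStabilizer (G := G) a
    have hβ : Fintype.card (SubMulAction.ofStabilizer G a) = 12 := by
      rw [← Nat.card_eq_fintype_card, SubMulAction.nat_card_ofStabilizer_eq,
        Nat.card_eq_fintype_card, hα]
    have : IsPretransitive (stabilizer G a) (SubMulAction.ofStabilizer G a) := by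
      rw [← is_one_pretransitive_iff]
      exact (SubMulAction.ofStabilizer.isMultiplyPretransitive (a := a)).1 h3
    have h4 := five_dvd_of_degree_twelve (G := stabilizer G a) hβ (by omega)
    omega

end

variable {α : Type*} [Fintype α] [DecidableEq α]

theorem card_fixedBy_add_support (G : Subgroup (Perm α)) (g : G) :
    Nat.card (fixedBy α g) + (g : Perm α).support.card = Fintype.card α := by
  have : Nat.card (fixedBy α g) = ((g : Perm α).supportᶜ).card := by
    rw [← Fintype.card_coe, ← Nat.card_eq_fintype_card]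
    refine Nat.card_congr (Equiv.subtypeEquivRight fun x => ?_)
    simp [mem_fixedBy, Subgroup.smul_def]
  rw [this, Finset.card_compl_add_card]

theorem alt_le_of_degree_seven (hα : Fintype.card α = 7) (G : Subgroup (Perm α))
    [IsPretransitive G α] (h : 5 ∣ Nat.card G) : alternatingGroup α ≤ G := by
  by_contra hA
  by_cases hs : Group.IsSolvable G
  · obtain ⟨k, hk, h3⟩ := card_of_solvable_prime_degree (G := G) (by norm_num) hα hs
    have hk' : k ≤ 6 := Nat.le_of_dvd (by norm_num) hk
    interval_cases k <;> omega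
  · have := (S0678.result hα G hs hA).1
    omega

theorem alt_le_of_degree_thirteen (hα : Fintype.card α = 13) (G : Subgroup (Perm α))
    [IsPretransitive G α] (h : 11 ∣ Nat.card G) : alternatingGroup α ≤ G := by
  by_contra hA
  have h5 := five_dvd_of_degree_thirteen (G := G) hα h
  have : Fact (Nat.Prime 5) := ⟨by norm_num⟩
  have hprim : IsPreprimitive G α :=
    IsPreprimitive.of_prime_card (by rw [Nat.card_eq_fintype_card, hα]; norm_num)
  have hα' : Nat.card α = 13 := by rw [Nat.card_eq_fintype_card, hα]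
  -- elements of order five have three fixed points
  have hfix : ∀ u : G, orderOf u = 5 → Nat.card (fixedBy α u) = 3 := by
    intro u hu
    have h1 := H36.card_modEq_card_fixedBy_prime (X := α) (by norm_num) u hu
    have h2 := card_fixedBy_add_support G u
    have hu1 : u ≠ 1 := H36.ne_one_of_orderOf_prime (by norm_num) hu
    have h3 : ¬ (u : Perm α).support.card < 2 * 5 := fun h3 => hA
      (H26.alt_le_of_prime_support G hprim (p := 5) (by norm_num) (by omega) u.2
        (fun e => hu1 (Subtype.ext e)) (by rw [← Subgroup.coe_pow, ← hu, pow_orderOf_eq_one]; rfl) h3)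
    rw [hα', Nat.ModEq] at h1
    omega
  have h25 : ¬ 25 ∣ Nat.card G := by
    intro h25
    obtain ⟨R, hR⟩ := Sylow.exists_subgroup_card_pow_prime (G := G) 5 (n := 2) h25
    have h1 := H36.card_dvd_of_card_fixedBy (X := α) R 3 (fun u hu hu1 => by
      apply hfix
      have h2 : orderOf u ∣ 5 ^ 2 := by
        rw [← hR]
        exact Subgroup.orderOf_dvd_natCard R hu
      obtain ⟨i, hi, h3⟩ := (Nat.dvd_prime_pow (by norm_num)).1 h2
      interval_cases i
      · exact absurd (orderOf_eq_one_iff.1 h3) hu1
      · exact h3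
      · exfalso
        have h4 : (u : Perm α) ^ 5 ≠ 1 := by
          intro h4
          have : u ^ 5 = 1 := Subtype.ext h4
          have := orderOf_dvd_of_pow_eq_one this
          rw [h3] at this
          norm_num at this
        apply h4
        rw [← orderOf_dvd_iff_pow_eq_one, ← lcm_cycleType, Multiset.lcm_dvd]
        intro n hn
        have h6 := dvd_of_mem_cycleType hn
        rw [Subgroup.orderOf_coe, h3] at h6
        have h7 := le_card_support_of_mem_cycleType hn
        have h8 := card_fixedBy_add_support G u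
        obtain ⟨j, hj, rfl⟩ := (Nat.dvd_prime_pow (by norm_num)).1 h6
        interval_cases j <;> omega)
    rw [hR, hα'] at h1
    norm_num at h1
  obtain ⟨Q⟩ : Nonempty (Sylow 5 G) := inferInstance
  obtain ⟨m, hm⟩ := h5
  have hQ := H36.card_sylow_eq_prime Q hm (by omega)
  obtain ⟨u, huQ, hu, hz⟩ := H36.exists_generator_prime hQ
  -- the normalizer of `Q` is transitive on the fixed points of `u`
  have hfu := hfix u hu
  obtain ⟨a, ha⟩ : (fixedBy α u).Nonempty := by
    by_contra hc
    rw [Set.not_nonempty_iff_eq_empty] at hc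
    rw [hc] at hfu
    simp at hfu
  have hle : ∀ b ∈ fixedBy α u, (Q : Subgroup G) ≤ stabilizer G b := fun b hb => by
    rw [← hz, Subgroup.zpowers_le]
    exact hb
  have horb : orbit (Subgroup.normalizer ((Q : Subgroup G) : Set G)) a = fixedBy α u := by
    ext b
    constructor
    · rintro ⟨g, rfl⟩
      have h1 : (g : G)⁻¹ * u * g ∈ (Q : Subgroup G) := by
        have := (Subgroup.mem_normalizer_iff.1 (Subgroup.inv_mem _ g.2) u).1 huQ
        simpa using this
      have h2 := hle a ha h1
      rw [mem_stabilizer_iff, mul_smul, mul_smul, inv_smul_eq_iff] at h2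
      exact h2
    · intro hb
      obtain ⟨g, hg⟩ := exists_smul_eq G a b
      have h1 : ((g • Q : Sylow 5 G) : Subgroup G) ≤ stabilizer G b := by
        intro x hx
        rw [Sylow.coe_subgroup_smul, Subgroup.mem_pointwise_smul_iff_inv_smul_mem] at hx
        have h2 := hle a ha hx
        rw [mem_stabilizer_iff] at h2 ⊢
        rw [← hg]
        simp only [MulAut.smul_def, MulAut.conj_inv_apply, mul_smul] at h2
        rwa [inv_smul_eq_iff] at h2
      obtain ⟨k, hk⟩ := exists_smul_eq (stabilizer G b) ((g • Q).subtype h1) (Q.subtype (hle b hb))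
      rw [Sylow.smul_subtype] at hk
      have h2 : ((k : G) * g) • Q = Q := by
        rw [mul_smul]
        exact Sylow.subtype_injective hk
      refine ⟨⟨(k : G) * g, Sylow.smul_eq_iff_mem_normalizer.1 h2⟩, ?_⟩
      change ((k : G) * g) • a = b
      rw [mul_smul, hg, k.2]
  have h3 : 3 ∣ Nat.card (Subgroup.normalizer ((Q : Subgroup G) : Set G)) := by
    rw [← hfu, ← horb, Nat.card_coe_set_eq, ← index_stabilizer]
    exact Subgroup.index_dvd_card _
  obtain ⟨v, hvN, hv⟩ := H36.exists_orderOf_eq_of_dvd _ Nat.prime_three h3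
  have hvC := H36.mem_centralizer_of_coprime hQ hvN (by rw [hv]; norm_num)
  have hc : Commute u v := Subgroup.mem_centralizer_iff.1 hvC u huQ
  have h4 := H36.card_modEq_card_fixedBy_prime (X := α) Nat.prime_three v hv
  have h6 := H36.card_fixedBy_modEq_of_commute (X := α) (by norm_num) hu hc
  have h7 := H36.card_fixedBy_modEq_of_commute (X := α) Nat.prime_three hv hc.symm
  rw [Set.inter_comm, hfu] at h7
  have h8 : Nat.card (fixedBy α v ∩ fixedBy α u : Set α) ≤ 3 := by
    rw [← hfu]
    exact Nat.card_mono (Set.toFinite _) Set.inter_subset_right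
  have hv1 : v ≠ 1 := H36.ne_one_of_orderOf_prime Nat.prime_three hv
  have h9 := H36.card_fixedBy_lt (X := α) hv1
  have h10 := card_fixedBy_add_support G v
  rw [hα'] at h4 h9
  rw [Nat.ModEq] at h4 h6 h7
  exact hA (H78.alt_le_of_support_le_three hprim v.2 (fun e => hv1 (Subtype.ext e)) (by omega))

theorem degree_six (hα : Fintype.card α = 6) (G : Subgroup (Perm α)) (hA : G ≤ alternatingGroup α)
    [IsPretransitive G α] (h : 5 ∣ Nat.card G) :
    alternatingGroup α ≤ G ∨ Nonempty (G ≃* alternatingGroup (Fin 5)) := by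
  by_cases hG : alternatingGroup α ≤ G
  · exact Or.inl hG
  right
  have hα' : Nat.card α = 6 := by rw [Nat.card_eq_fintype_card, hα]
  obtain ⟨a⟩ : Nonempty α := Fintype.card_pos_iff.1 (by omega)
  have h1 := H16.card_eq_of_transitive (G := G) a
  rw [hα'] at h1
  have := alternatingGroup.isSimpleGroup (α := α) (by omega)
  have hnt : Nontrivial α := Fintype.one_lt_card_iff_nontrivial.1 (by omega)
  have hc : Nat.card (alternatingGroup α) = 360 := by
    have := two_mul_nat_card_alternatingGroup (α := α)
    rw [Nat.card_perm, hα', show Nat.factorial 6 = 720 by decide] at this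
    omega
  have h2 := H36.prime_le_index (H := G.subgroupOf (alternatingGroup α))
    (by rwa [Ne, Subgroup.subgroupOf_eq_top]) (p := 5) (by norm_num) (by rw [hc]; norm_num)
  have h3 := (G.subgroupOf (alternatingGroup α)).card_mul_index
  rw [hc, Nat.card_congr (Subgroup.subgroupOfEquivOfLe hA).toEquiv] at h3
  obtain ⟨d, hd⟩ : 30 ∣ Nat.card G := by omega
  have h4 : d < 5 := by
    rw [hd] at h3
    nlinarith
  rcases s732_action (G := G) (α := α) (p := 5) (d := d) (by norm_num) hα (by omega) h4
    with h5 | ⟨h5, ⟨e⟩⟩ | ⟨q, h5⟩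
  · exfalso
    rw [hd, h5] at h3
    omega
  · have : Fact (Nat.Prime 5) := ⟨by norm_num⟩
    have := Matrix.ProjectiveSpecialLinearGroup.rank_two_simple (F := ZMod 5) (by simp)
    have : IsSimpleGroup G := e.isSimpleGroup
    exact S0494.result (by omega)
  · exfalso
    have : (3 : ℕ) ∣ 2 ^ q := by rw [← h5]; norm_num
    have := (Nat.prime_three.dvd_of_dvd_pow this)
    omega

end Cfsg.Agent.H81
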