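import Cfsg.Agent.H81.Miller
import Cfsg.Agent.H36.More

set_option autoImplicit false

namespace Cfsg.Agent.H81

open Subgroup

/-- The number of elements of order `m`. -/
noncomputable def so (G : Type*) [Group G] (m : ℕ) : ℕ := Nat.card {g : G // orderOf g = m}

variable {G : Type*} [Group G] [Finite G]

omit [Finite G] in
theorem so_one : so G 1 = 1 := by
  rw [so, Nat.card_eq_one_iff_exists]
  exact ⟨⟨1, orderOf_one⟩, fun g => Subtype.ext (orderOf_eq_one_iff.1 g.2)⟩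

theorem so_ne_zero_iff {m : ℕ} : so G m ≠ 0 ↔ ∃ g : G, orderOf g = m := by
  rw [so, Nat.card_ne_zero]
  exact ⟨fun ⟨⟨g⟩, _⟩ => ⟨g.1, g.2⟩, fun ⟨g, hg⟩ => ⟨⟨⟨g, hg⟩⟩, inferInstance⟩⟩

theorem so_ne_zero_of_dvd {m n : ℕ} (h : so G n ≠ 0) (hm : m ∣ n) : so G m ≠ 0 := by
  obtain ⟨g, rfl⟩ := so_ne_zero_iff.1 h
  exact so_ne_zero_iff.2 ⟨g ^ (orderOf g / m), orderOf_pow_orderOf_div (orderOf_pos g).ne' hm⟩

theorem so_prime_ne_zero {p : ℕ} (hp : p.Prime) (h : p ∣ Nat.card G) : so G p ≠ 0 :=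
  have := Fact.mk hp
  so_ne_zero_iff.2 (exists_prime_orderOf_dvd_card' p h)

theorem totient_dvd_so (m : ℕ) : m.totient ∣ so G m := by
  have h := card_elts_eq_card_cyclic (G := G) (β := Unit) m (fun _ _ => True)
  have h2 : Nat.card {z : G × Unit // orderOf z.1 = m ∧ True} = so G m :=
    Nat.card_congr ⟨fun z => ⟨z.1.1, z.2.1⟩, fun x => ⟨(x.1, ()), x.2, trivial⟩,
      fun _ => rfl, fun _ => rfl⟩
  rw [← h2, h]
  exact Dvd.intro_left _ rfl

theorem two_dvd_so {m : ℕ} (hm : 2 < m) : 2 ∣ so G m :=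
  (Nat.totient_even hm).two_dvd.trans (totient_dvd_so m)

theorem dvd_so_of_sq_dvd {p m : ℕ} (hp : p.Prime) (h : p * p ∣ m) : p ∣ so G m := by
  refine Dvd.dvd.trans ?_ ((Nat.totient_dvd_of_dvd h).trans (totient_dvd_so m))
  rw [← pow_two, Nat.totient_prime_pow hp two_pos]
  simp

theorem four_dvd_so {a b m : ℕ} (ha : 2 < a) (hb : 2 < b) (hab : a.Coprime b) (h : a * b ∣ m) :
    4 ∣ so G m := by
  refine Dvd.dvd.trans ?_ ((Nat.totient_dvd_of_dvd h).trans (totient_dvd_so m))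
  rw [Nat.totient_mul hab]
  exact Nat.mul_dvd_mul (Nat.totient_even ha).two_dvd (Nat.totient_even hb).two_dvd

theorem orderOf_pow_prime_eq_iff {p m : ℕ} (hp : p.Prime) (hm : ¬ p ∣ m) (g : G) :
    orderOf (g ^ p) = m ↔ orderOf g = m ∨ orderOf g = p * m := by
  by_cases h : p ∣ orderOf g
  · rw [orderOf_pow_of_dvd hp.ne_zero h]
    obtain ⟨k, hk⟩ := h
    rw [hk, Nat.mul_div_cancel_left _ hp.pos]
    constructor
    · rintro rfl
      exact Or.inr rfl
    · rintro (h | h)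
      · exact absurd (Dvd.intro _ h) hm
      · exact Nat.eq_of_mul_eq_mul_left hp.pos h
  · rw [Nat.Coprime.orderOf_pow ((hp.coprime_iff_not_dvd.2 h).symm)]
    exact ⟨Or.inl, fun h1 => h1.resolve_right fun h2 => h (Dvd.intro _ h2.symm)⟩

theorem card_or_eq {a b : ℕ} (h : a ≠ b) :
    Nat.card {g : G // orderOf g = a ∨ orderOf g = b} = so G a + so G b :=
  H36.card_subtype_or fun _ h1 h2 => h (h1.symm.trans h2)

/-- Frobenius: `s_m + s_{pm} ≡ 0 (mod p)`. -/
theorem dvd_so_add {p m : ℕ} (hp : p.Prime) (h : p ∣ Nat.card G) (hm : ¬ p ∣ m) :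
    p ∣ so G m + so G (p * m) := by
  have h2 := gcd_dvd_card_pow_mem (G := G) p (fun y => orderOf y = m) (by
    intro x y hxy hx
    obtain ⟨c, rfl⟩ := isConj_iff.1 hxy
    rwa [show orderOf (c * x * c⁻¹) = orderOf x from (MulAut.conj c).orderOf_eq x])
  rw [Nat.gcd_eq_left h] at h2
  rw [← card_or_eq (fun e => hm (by rw [e]; exact Dvd.intro _ rfl))]
  convert h2 using 3 with g
  ext g
  exact (orderOf_pow_prime_eq_iff hp hm g).symm

theorem so_add_eq_zero {p m : ℕ} (hp : p.Prime) (h : p ∣ Nat.card G) (hm : ¬ p ∣ m) :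
    (so G m : ZMod p) + so G (p * m) = 0 := by
  rw [← Nat.cast_add, ZMod.natCast_eq_zero_iff]
  exact dvd_so_add hp h hm

theorem one_add_so {p : ℕ} (hp : p.Prime) (h : p ∣ Nat.card G) :
    (1 : ZMod p) + so G p = 0 := by
  have := so_add_eq_zero hp h (m := 1) (by rw [Nat.dvd_one]; exact hp.one_lt.ne')
  rwa [so_one, mul_one, Nat.cast_one] at this

theorem pow_dvd_one_add_so {p k : ℕ} (hp : p.Prime) (h : p ^ k ∣ Nat.card G)
    (h2 : so G (p * p) = 0) : p ^ k ∣ 1 + so G p := by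
  rcases k with _ | k
  · simp
  have h1 := dvd_card_pow_eq_one h
  have h0 := card_or_eq (G := G) hp.one_lt.ne
  rw [so_one] at h0
  rw [← h0]
  convert h1 using 3 with g
  ext g
  rw [← orderOf_dvd_iff_pow_eq_one]
  constructor
  · rintro (h | h) <;> rw [h]
    · exact one_dvd _
    · exact dvd_pow_self p (by omega)
  · intro h3
    obtain ⟨i, -, hi⟩ := (Nat.dvd_prime_pow hp).1 h3
    rcases i with _ | _ | i
    · exact Or.inl hi
    · exact Or.inr (by rw [hi]; simp)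
    · exfalso
      exact so_ne_zero_of_dvd (so_ne_zero_iff.2 ⟨g, hi⟩) (m := p * p)
        (by rw [← pow_two]; exact pow_dvd_pow p (by omega)) h2

theorem four_dvd_so_add (h : so G 4 ≠ 0) : 4 ∣ 1 + so G 2 + so G 4 := by
  obtain ⟨x, hx⟩ := so_ne_zero_iff.1 h
  have h1 := dvd_card_pow_eq_one (G := G) (n := 4) (hx ▸ orderOf_dvd_natCard x)
  have h2 : Nat.card {g : G // (orderOf g = 1 ∨ orderOf g = 2) ∨ orderOf g = 4} =
      1 + so G 2 + so G 4 := by
    rw [H36.card_subtype_or (fun _ h1 h2 => by omega), card_or_eq (by norm_num), so_one]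
    rfl
  rw [← h2]
  convert h1 using 3 with g
  ext g
  rw [← orderOf_dvd_iff_pow_eq_one]
  constructor
  · rintro ((h | h) | h) <;> rw [h] <;> norm_num
  · intro h3
    have := Nat.le_of_dvd (by norm_num) h3
    have := orderOf_pos g
    interval_cases orderOf g <;> omega

theorem two_ne_zero_zmod {p : ℕ} (hp : p.Prime) (h2 : p ≠ 2) : (2 : ZMod p) ≠ 0 := by
  intro h
  have : ((2 : ℕ) : ZMod p) = 0 := by exact_mod_cast h
  rw [ZMod.natCast_eq_zero_iff] at this
  exact h2 ((Nat.prime_dvd_prime_iff_eq hp Nat.prime_two).mp this)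

theorem so_mem_of_eq {S : Set ℕ}
    (h : (fun m : ℕ => Nat.card {g : G // orderOf g = m}) '' Set.range (orderOf : G → ℕ) = S)
    (m : ℕ) : so G m = 0 ∨ so G m ∈ S := by
  by_cases h0 : so G m = 0
  · exact Or.inl h0
  · exact Or.inr (h ▸ ⟨m, so_ne_zero_iff.1 h0, rfl⟩)

theorem exists_values_of_ncard_three
    (h : ((fun m : ℕ => Nat.card {g : G // orderOf g = m}) ''
      Set.range (orderOf : G → ℕ)).ncard = 3) :
    ∃ a b : ℕ, ∀ m, so G m = 0 ∨ so G m = 1 ∨ so G m = a ∨ so G m = b := by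
  obtain ⟨x, y, z, -, -, -, hS⟩ := Set.ncard_eq_three.1 h
  have h1 := (so_mem_of_eq hS 1).resolve_left (by rw [so_one]; norm_num)
  rw [so_one] at h1
  have h2 := so_mem_of_eq hS
  simp only [Set.mem_insert_iff, Set.mem_singleton_iff] at h1 h2
  rcases h1 with h1 | h1 | h1
  · exact ⟨y, z, fun m => by have := h2 m; omega⟩
  · exact ⟨x, z, fun m => by have := h2 m; omega⟩
  · exact ⟨x, y, fun m => by have := h2 m; omega⟩

/-- If all orders greater than two occur equally often, at most one odd prime divides `|G|`. -/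
theorem odd_prime_unique_of_two_values {n : ℕ} (h : ∀ m, 2 < m → so G m = 0 ∨ so G m = n)
    {p q : ℕ} (hp : p.Prime) (hq : q.Prime) (hp2 : p ≠ 2) (hq2 : q ≠ 2) (h1 : p ∣ Nat.card G)
    (h2 : q ∣ Nat.card G) : p = q := by
  by_contra hpq
  have := Fact.mk hp
  have hp3 := hp.two_le
  have hq3 := hq.two_le
  have h3 := (h p (by omega)).resolve_left (so_prime_ne_zero hp h1)
  have h4 := (h q (by omega)).resolve_left (so_prime_ne_zero hq h2)
  have h5 := one_add_so hp h1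
  have h6 := so_add_eq_zero hp h1 (m := q) (fun e => hpq ((Nat.prime_dvd_prime_iff_eq hp hq).1 e))
  rw [h3] at h5
  rw [h4] at h6
  rcases h (p * q) (by nlinarith) with h7 | h7 <;> rw [h7] at h6
  · exact one_ne_zero (α := ZMod p) (by push_cast at h6; linear_combination h5 - h6)
  · exact two_ne_zero_zmod hp hp2 (by linear_combination 2 * h5 - h6)

theorem card_eq_of_odd_prime_unique
    (h : ∀ p q : ℕ, p.Prime → q.Prime → p ≠ 2 → q ≠ 2 → p ∣ Nat.card G → q ∣ Nat.card G → p = q) :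
    ∃ p a b : ℕ, p.Prime ∧ p ≠ 2 ∧ Nat.card G = 2 ^ a * p ^ b := by
  obtain ⟨a, m, hm, hG⟩ := Nat.exists_eq_two_pow_mul_odd (Nat.card_pos (α := G)).ne'
  by_cases h1 : m = 1
  · exact ⟨3, a, 0, Nat.prime_three, by norm_num, by rw [hG, h1, pow_zero]⟩
  obtain ⟨p, hp, hd⟩ := Nat.exists_prime_and_dvd h1
  have hne : ∀ r : ℕ, r ∣ m → r ≠ 2 := fun r hr e =>
    (Nat.not_even_iff_odd.2 hm) (even_iff_two_dvd.2 (e ▸ hr))
  refine ⟨p, a, _, hp, hne p hd, hG.trans (congrArg _ (Nat.eq_prime_pow_of_unique_prime_dvd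
    hm.pos.ne' fun {r} hr hrd => h r p hr hp (hne r hrd) (hne p hd) ?_ ?_))⟩
  · rw [hG]; exact hrd.mul_left _
  · rw [hG]; exact hd.mul_left _

theorem mem_center_of_so_two (h : so G 2 = 1) {z : G} (hz : orderOf z = 2) : z ∈ center G := by
  obtain ⟨w, hw⟩ := Nat.card_eq_one_iff_exists.1 h
  rw [mem_center_iff]
  intro g
  have h1 := (hw ⟨z, hz⟩).trans (hw ⟨g * z * g⁻¹, ((MulAut.conj g).orderOf_eq z).trans hz⟩).symm
  exact mul_inv_eq_iff_eq_mul.1 (Subtype.mk.inj h1).symm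

/-- A unique involution and no element of order four: the order is twice an odd number. -/
theorem not_four_dvd_card (h : so G 2 = 1) (h4 : so G 4 = 0) : ¬ 4 ∣ Nat.card G := by
  intro hd
  have := pow_dvd_one_add_so (G := G) (k := 2) Nat.prime_two hd h4
  rw [h] at this
  norm_num at this

end Cfsg.Agent.H81
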