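/-
A group with abelian Sylow 2-subgroups and a Hall `2'`-subgroup is solvable.
-/
import Cfsg.Agent.JR.Extra
import Cfsg.Agent.H43.SE

set_option autoImplicit false

namespace Cfsg.Agent.H81.AbHall

open Subgroup Cfsg Cfsg.Agent.H49 Cfsg.Agent.JR

universe u

variable {G : Type u} [Group G] [Finite G]

/-- transfer: a central `p`-element of the derived group is trivial if the Sylow `p`-subgroups
are abelian -/
theorem eq_one_of_center {p : ℕ} [hp : Fact p.Prime]
    (hA : ∀ P : Sylow p G, IsMulCommutative (P : Subgroup G)) {z : G} (hz : z ∈ center G)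
    (hz' : z ∈ commutator G) (h2 : IsPGroup p (zpowers z)) : z = 1 := by
  obtain ⟨S, hS⟩ := h2.exists_le_sylow
  have hzS : z ∈ (S : Subgroup G) := hS (mem_zpowers z)
  haveI := hA S
  letI : CommGroup (S : Subgroup G) := IsMulCommutative.instCommGroup
  have h1 := H43.transfer_eq_pow' (MonoidHom.id (S : Subgroup G)) z hzS (fun k a ha => by
    apply Subtype.ext
    change a⁻¹ * z ^ k * a = z ^ k
    rw [mul_assoc, ← mem_center_iff.1 (pow_mem hz k) a, inv_mul_cancel_left])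
  have h3 : MonoidHom.transfer (MonoidHom.id (S : Subgroup G)) z = 1 :=
    Abelianization.commutator_subset_ker _ hz'
  rw [h3] at h1
  have h4 : z ^ (S : Subgroup G).index = 1 := (congrArg Subtype.val h1).symm
  obtain ⟨k, hk⟩ := h2 ⟨z, mem_zpowers z⟩
  exact H43.eq_one_of_pow_coprime (Nat.Coprime.pow_left k
    ((Nat.Prime.coprime_iff_not_dvd hp.out).2 S.not_dvd_index)) (congrArg Subtype.val hk) h4

theorem ab_of_pi (hA : H21.Ab2 G) {P : Subgroup G} (hP : IsPi {2} P) : P ≤ 𝒞(P) :=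
  abelian_iff.1 (hA.isMulCommutative (hP.isPGroup Nat.prime_two))

theorem elt_two {t : G} (ht : orderOf t = 2) : IsPiElt {2} t :=
  isPi_zpowers.1 (pi_zpowers_two ht)

theorem hall_cent (hA : H21.Ab2 G) {H : Subgroup G} (hH : IsPiHallOf {2}ᶜ H ⊤) {t : G}
    (ht : orderOf t = 2) : IsPiHallOf {2}ᶜ (H ⊓ 𝒞[t]) 𝒞[t] := by
  obtain ⟨P, hP, tP⟩ := exists_sylowOf_ge (pi_zpowers_two ht) le_top
  exact H49.Cfsg.IsPiHallOf.of_isProd (hH.pi.inf_left _) hP.pi.compl_compl
    ((hH.isProd hP.compl_compl).restrict_right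
      ((ab_of_pi hA hP.pi).trans (cent_le_cent1 (tP (mem_zpowers t)))) le_top)

theorem simple_case [IsSimpleGroup G] (hA : H21.Ab2 G) (hns : ¬ Group.IsSolvable G)
    {H : Subgroup G} (hH : IsPiHallOf {2}ᶜ H ⊤)
    (ih : ∀ t : G, orderOf t = 2 → Group.IsSolvable 𝒞[t]) : False := by
  have nrm : ∀ N : Subgroup G, N.Normal → Group.IsSolvable N → N = ⊥ := fun N h1 h2 =>
    (h1.eq_bot_or_eq_top).resolve_right fun e => hns (by
      subst e; exact solvable_of_surjective (f := (⊤ : Subgroup G).subtype) fun x => ⟨⟨x, trivial⟩, rfl⟩)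
  have oH : Odd (Nat.card H) := odd_iff_pi.2 hH.pi
  have key : ∀ (t : G) (P : Subgroup G), orderOf t = 2 → IsSylowOf 2 P ⊤ → t ∈ P →
      𝒞[t] ≤ 𝒩(P) := fun t P ht hP tP => by
    have PC : P ≤ 𝒞[t] := (ab_of_pi hA hP.pi).trans (cent_le_cent1 tP)
    have h1 : piCoreOf {2}ᶜ 𝒞[t] = ⊥ := by
      rw [eq_bot_iff, ← nrm _ H.normalCore_normal (solvable_of_le (solv_odd oH) H.normalCore_le)]
      intro x hx g
      have h2 := hH.cj g⁻¹
      rw [cj_top] at h2
      have : x ∈ cj g⁻¹ H := ((hall_cent hA h2 ht).piCoreOf_le hx).1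
      rwa [mem_cj, inv_inv] at this
    have h3 := (hP.sub PC le_top).piCoreOf_le
    have h4 : P ≤ piCoreOf {2} 𝒞[t] := le_trans (le_inf PC ((ab_of_pi hA hP.pi).trans
      (cent_anti h3))) (cent_pcore_le (ih t ht) h1)
    rw [le_antisymm h4 h3]
    exact le_norm_piCoreOf _ _
  have mem : ∀ (P : Subgroup G) (z : G), IsSylowOf 2 P ⊤ → z ∈ 𝒩(P) → IsPiElt {2} z → z ∈ P :=
    fun P z hP h1 h2 => (hP.sub le_normalizer le_top).mem_of_normal le_rfl h1 h2
  have TI : ∀ (P : Subgroup G) (t g : G), IsSylowOf 2 P ⊤ → orderOf t = 2 → t ∈ P →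
      g * t * g⁻¹ ∈ P → g ∈ 𝒩(P) := fun P t g hP ht h1 h2 => by
    have hP' := hP.cj_of_mem (mem_top g)
    refine mem_norm_of_cj_le ((hP.sub le_normalizer le_top).le_of_normal le_rfl (le_trans ?_
      (key _ P ((orderOf_cj g t).trans ht) hP h2)) hP'.pi)
    exact (ab_of_pi hA hP'.pi).trans (cent_le_cent1 (conj_mem_cj.2 h1))
  obtain ⟨S⟩ : Nonempty (Sylow 2 G) := inferInstance
  have hP := sylowOf_top Nat.prime_two S
  have ev : 2 ∣ Nat.card G := by
    by_contra h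
    exact hns (S0205.result (by rwa [← Nat.not_even_iff_odd, even_iff_two_dvd]))
  obtain ⟨t1, t1P, o1⟩ := exists_orderOf_eq_of_dvd_card Nat.prime_two
    (hP.dvd_card Nat.prime_two rfl (by rwa [card_top]))
  obtain ⟨t2, t2P, o2, ne⟩ : ∃ t2 ∈ (S : Subgroup G), orderOf t2 = 2 ∧ t2 ≠ t1 := by
    by_contra hc
    push Not at hc
    have h1 := hA.mem_center (by
      rw [pPrimeCore_eq_piCoreOf_top Nat.prime_two]
      exact nrm _ (normal_iff_top_le_norm.2 (le_norm_piCoreOf _ _)) (solv_odd (odd_Od ⊤))) S t1P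
      fun n hn => hc _ (conj_mem_of_norm le_rfl hn t1P) ((orderOf_cj n t1).trans o1)
    rw [nrm (center G) inferInstance (solvable_of_abelian inferInstance)] at h1
    exact ne_one_of_two o1 h1
  generalize (S : Subgroup G) = P at *
  obtain ⟨g, hg⟩ : ∃ g, g ∉ 𝒩(P) := by
    by_contra hc
    push Not at hc
    rw [nrm P (normal_iff_top_le_norm.2 fun g _ => hc g)
      (solvable_of_nilpotent hP.pi.nilpotent)] at t1P
    exact ne_one_of_two o1 t1P
  have ou : orderOf (g * t1 * g⁻¹) = 2 := (orderOf_cj g t1).trans o1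
  have hu : g * t1 * g⁻¹ ∉ 𝒩(P) := fun h => hg (TI P t1 g hP o1 t1P (mem P _ hP h (elt_two ou)))
  generalize g * t1 * g⁻¹ = u at ou hu
  have os : orderOf (u * t2 * u⁻¹) = 2 := (orderOf_cj u t2).trans o2
  have odd : Odd (orderOf (t1 * (u * t2 * u⁻¹))) := by
    by_contra h
    obtain ⟨k, oz, c1, c2⟩ := H43.exists_central_inv (mul_self_of_two o1) (mul_self_of_two os)
      (Nat.not_odd_iff_even.1 h)
    generalize (t1 * (u * t2 * u⁻¹)) ^ k = z at oz c1 c2
    have h1 := mem P z hP (key t1 P o1 hP t1P (mem_cent1.2 c1.symm)) (elt_two oz)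
    have h2 : u⁻¹ * z * u⁻¹⁻¹ ∈ P := mem P _ hP (key t2 P o2 hP t2P (mem_cent1.2 (by
      calc u⁻¹ * z * u⁻¹⁻¹ * t2 = u⁻¹ * (z * (u * t2 * u⁻¹)) * u := by group
        _ = t2 * (u⁻¹ * z * u⁻¹⁻¹) := by rw [← c2]; group)))
      (elt_two ((orderOf_cj _ z).trans oz))
    exact hu (inv_mem_iff.1 (TI P z _ hP oz h1 h2))
  obtain ⟨k, w2, hw⟩ := H43.exists_pow_conj (mul_self_of_two o1) (mul_self_of_two os) odd
  generalize (t1 * (u * t2 * u⁻¹)) ^ k * t1 = w at w2 hw
  have wi : w⁻¹ = w := inv_eq_of_mul_eq_one_right w2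
  have ui := inv_of_two ou
  have hx1 : u * w * t1 * (u * w)⁻¹ = t2 := by
    calc u * w * t1 * (u * w)⁻¹ = u * (w * t1 * w) * u⁻¹ := by rw [mul_inv_rev, wi]; group
      _ = (u * u) * t2 * (u * u)⁻¹ := by rw [hw]; group
      _ = t2 := by rw [mul_self_of_two ou]; group
  have hx2 : u * (u * w) * u⁻¹ = (u * w)⁻¹ := by
    rw [← mul_assoc, mul_self_of_two ou, one_mul, mul_inv_rev, wi]
  generalize u * w = x at hx1 hx2
  have xN : x ∈ 𝒩(P) := TI P t1 x hP o1 t1P (hx1 ▸ t2P)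
  have oC : Odd (Nat.card 𝒞[x]) := X.odd_of_no_inv fun s hs os => by
    have nC : zpowers u ≤ 𝒩(𝒞[x]) := zpowers_le.2 (mem_norm_iff_cj.2 (by
      rw [cj_cent1, hx2, ← cent_zpowers, zpowers_inv, cent_zpowers]))
    obtain ⟨Q, hQ, uQ⟩ := exists_sylowOf_ge (M := 𝒞[x] ⊔ zpowers u) (pi_zpowers_two ou)
      le_sup_right
    obtain ⟨l, hl, h1⟩ := sylowOf_subJ hQ (zpowers_le.2 (mem_sup_left hs)) (pi_zpowers_two os)
    obtain ⟨R, hR, QR⟩ := exists_sylowOf_ge hQ.pi le_top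
    have h2 : x ∈ 𝒩(R) := key _ R ((orderOf_cj l s).trans os) hR
      (QR (h1 (conj_mem_cj.2 (mem_zpowers s))))
      (mem_cent1_comm.1 (conj_mem_of_norm (sup_le le_normalizer nC) hl hs))
    have h3 : x⁻¹ * x⁻¹ ∈ R := by
      have := mul_mem (conj_mem_of_norm' le_rfl h2 (QR (uQ (mem_zpowers u))))
        (inv_mem (QR (uQ (mem_zpowers u))))
      rwa [mul_assoc, mul_assoc, ← mul_assoc u, hx2] at this
    obtain ⟨y, hy, z, hz, e, py, pz⟩ := exists_pi_decomp {2} x
    have h4 : z = 1 := by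
      obtain ⟨n, rfl⟩ := hz
      have h5 : x ^ n * x ^ n ∈ R := by
        have := zpow_mem (inv_mem h3) n
        rwa [mul_inv_rev, inv_inv, (Commute.refl x).mul_zpow] at this
      exact (hR.pi.elt (mem_of_sq_mem (odd_iff_piElt.2 pz) h5)).eq_one pz
    rw [h4, mul_one] at e
    have h5 := cent_le_cent1 t1P (ab_of_pi hA hP.pi (mem P x hP xN (e ▸ py)))
    exact ne (by rw [← hx1, mem_cent1.1 h5, mul_inv_cancel_right])
  have px : IsPi {2}ᶜ (zpowers x) := (odd_iff_pi.1 oC).of_le (zpowers_le.2 (self_mem_cent1 x))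
  have pr := (hH.isProd hP.compl_compl).restrict_right le_normalizer le_top
  obtain ⟨n, -, hn⟩ := sz_subJ (zpowers_le.2 xN) (px.coprime' hP.pi)
    (Or.inl (solvable_of_abelian inferInstance)) inf_le_right
    ((zpowers_le.2 xN).trans (pr.symm.sup_eq).ge)
  have hH' := hH.cj n⁻¹
  rw [cj_top] at hH'
  have xH : x ∈ cj n⁻¹ H := cj_le_iff.1 (hn.trans inf_le_left) (mem_zpowers x)
  generalize cj n⁻¹ H = K at hH' xH
  obtain ⟨h, hh, p, hp, rfl⟩ := (hH'.isProd hP.compl_compl).2.2 u trivial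
  have h1 : p * x * p⁻¹ * x⁻¹ ∈ K ⊓ P := by
    refine mem_inf.2 ⟨mul_mem ?_ (inv_mem xH), ?_⟩
    · have := conj_mem_of_norm' le_normalizer hh (hx2 ▸ inv_mem xH : h * p * x * (h * p)⁻¹ ∈ K)
      rwa [show h⁻¹ * (h * p * x * (h * p)⁻¹) * h = p * x * p⁻¹ by group] at this
    · rw [mul_assoc, mul_assoc, ← mul_assoc x]
      exact mul_mem hp (conj_mem_of_norm le_rfl xN (inv_mem hp))
  rw [hH'.pi.inf_eq_bot' hP.pi, mem_bot, mul_inv_eq_one, mul_inv_eq_iff_eq_mul] at h1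
  have h2 : p ∈ P ⊓ 𝒞[x] := ⟨hp, mem_cent1.2 h1⟩
  rw [hP.pi.inf_eq_bot (odd_iff_pi.1 oC), mem_bot] at h2
  rw [h2, mul_one] at ou
  exact not_mem_odd ou (odd_iff_pi.2 hH'.pi) hh

theorem solvable_of_hall_aux (n : ℕ) : ∀ (G : Type u) [Group G] [Finite G], Nat.card G = n →
    H21.Ab2 G → ∀ H : Subgroup G, IsPiHallOf {2}ᶜ H ⊤ → Group.IsSolvable G := by
  induction n using Nat.strong_induction_on with
  | _ n ih =>
  intro G _ _ hn hA H hH
  subst hn
  have sub : ∀ N : Subgroup G, N ≠ ⊤ → IsPiHallOf {2}ᶜ (H ⊓ N) N → Group.IsSolvable N :=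
    fun N h1 h2 => ih _ (by rw [← card_top (G := G)]; exact card_lt_of_lt h1.lt_top) N rfl
      (hA.sub N) _ ((hall_subgroupOf_top inf_le_right).2 h2)
  rcases subsingleton_or_nontrivial G with h | h
  · infer_instance
  by_cases hs : ∀ N : Subgroup G, N.Normal → N = ⊥ ∨ N = ⊤
  · haveI : IsSimpleGroup G := ⟨hs⟩
    by_contra hns
    refine simple_case hA hns hH fun t ht => sub _ (fun e => ?_) (hall_cent hA hH ht)
    rcases hs (center G) inferInstance with h1 | h1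
    · have : t ∈ center G := mem_center_iff.2 fun g => mem_cent1.1 (e ▸ mem_top g)
      rw [h1] at this
      exact ne_one_of_two ht this
    · exact hns (isSolvable_of_comm fun a b => (mem_center_iff.1 (h1 ▸ mem_top b) a))
  push Not at hs
  obtain ⟨N, hN, h1, h2⟩ := hs
  haveI := sub N h2 (hH.inf_normal le_top (normal_iff_top_le_norm.1 hN))
  have h3 := hH.map (QuotientGroup.mk' N)
  rw [map_top_of_surjective _ (QuotientGroup.mk'_surjective N)] at h3
  haveI := ih _ (by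
    have := card_eq_card_quotient_mul_card_subgroup N
    have h4 := (one_lt_card_iff_ne_bot N).2 h1
    have h5 : 0 < Nat.card (G ⧸ N) := Nat.card_pos
    nlinarith) (G ⧸ N) rfl (hA.quot N) _ h3
  exact solvable_of_ker_le_range N.subtype (QuotientGroup.mk' N) (by simp)

/-- abelian Sylow 2-subgroups and a Hall `2'`-subgroup imply solvability -/
theorem solvable_of_hall (hA : H21.Ab2 G) {H : Subgroup G} (hH : IsPiHallOf {2}ᶜ H ⊤) :
    Group.IsSolvable G := solvable_of_hall_aux _ G rfl hA H hH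

/-- abelian Sylow 2-subgroups, `C` of 2-power index: `G / core C` is solvable -/
theorem solvable_quot_core (hA : H21.Ab2 G) {C : Subgroup G} (hC : IsPiNat {2} C.index) :
    Group.IsSolvable (G ⧸ C.normalCore) := by
  obtain ⟨Q, hQ⟩ := exists_sylowOf 2 C
  obtain ⟨P, hP, QP⟩ := exists_sylowOf_ge hQ.pi le_top
  have pr : IsProd C P ⊤ := isProd_of_coprime_relIndex le_top le_top
    ((relIndex_top_right C ▸ hC).coprime hP.index)
  have h1 : Q ≤ C.normalCore := fun x hx g => by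
    obtain ⟨c, hc, p, hp, rfl⟩ := pr.2.2 g trivial
    have h2 : p * x * p⁻¹ = x := by
      rw [mem_cent1.1 (cent_le_cent1 (QP hx) (ab_of_pi hA hP.pi hp)), mul_inv_cancel_right]
    rw [show c * p * x * (c * p)⁻¹ = c * (p * x * p⁻¹) * c⁻¹ by group, h2]
    exact mul_mem (mul_mem hc (hQ.le hx)) (inv_mem hc)
  refine solvable_of_hall (hA.quot _) (H := C.map (QuotientGroup.mk' C.normalCore))
    (hall_mk le_top ?_ ?_)
  · have h2 := hQ.index_of_le h1
    rwa [← QuotientGroup.ker_mk' C.normalCore, relIndex_ker] at h2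
  · rw [relIndex_top_right, index_map, QuotientGroup.ker_mk', sup_eq_left.2 C.normalCore_le,
      MonoidHom.range_eq_top.2 (QuotientGroup.mk'_surjective _), index_top, mul_one]
    exact hC.compl_compl

end Cfsg.Agent.H81.AbHall
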