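import Cfsg.Agent.H81.Misc
import Cfsg.Agent.H1.Frattini
import Cfsg.Agent.H4.CoprimeAut
import Cfsg.Agent.H3.Frobenius
import Mathlib.GroupTheory.Perm.Cycle.Type

/-! Primes dividing the order of the automorphism group of a `p`-group. -/

set_option autoImplicit false

namespace Cfsg.Agent.H81

open Subgroup

variable {G : Type*} [Group G]

theorem index_frattini_dvd [Finite G] {p : ℕ} [Fact p.Prime] (hG : IsPGroup p G) :
    (frattini G).index ∣ p ^ Group.rank G := by
  obtain ⟨S, hS1, hS2⟩ := Group.rank_spec G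
  have := H1.relIndex_sup_closure_dvd (H1.commutator_le_frattini hG) (H1.pow_mem_frattini hG) S
  rwa [hS2, sup_top_eq, relIndex_top_right, hS1] at this

/-- An automorphism of prime order `q ≠ p` of a `p`-group with `d` generators forces
`q ∣ p ^ i - 1` for some `1 ≤ i ≤ d`. -/
theorem exists_dvd_pow_sub_one [Finite G] {p : ℕ} [hp : Fact p.Prime] (hG : IsPGroup p G)
    (a : MulAut G) {q : ℕ} (hq : q.Prime) (hqp : q ≠ p) (ha : orderOf a = q) :
    ∃ i, 1 ≤ i ∧ i ≤ Group.rank G ∧ p ^ i ∣ Nat.card G ∧ q ∣ p ^ i - 1 := by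
  classical
  have := Fintype.ofFinite G
  have := Fact.mk hq
  let H := H4.fixedBy a ⊔ frattini G
  have hH : H ≠ ⊤ := by
    intro h
    have h1 := frattini_nongenerating h
    have h2 : a = 1 := MulEquiv.ext fun x => H4.mem_fixedBy.1 (h1 ▸ mem_top x)
    rw [h2, orderOf_one] at ha
    exact hq.one_lt.ne ha
  have hmap : H.map (a : G →* G) = H := by
    refine eq_of_le_of_card_ge ?_ (card_map_of_injective a.injective).ge
    rw [Subgroup.map_sup]
    refine sup_le_sup ?_ ((characteristic_iff_map_eq.1 inferInstance a).le)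
    rintro _ ⟨x, hx, rfl⟩
    have : a x = x := hx
    show a (a x) = a x
    rw [this, this]
  have hinv : ∀ x, MulAut.toPerm G a x ∉ H ↔ x ∉ H := fun x => not_congr (by
    conv_lhs => rw [← hmap]
    exact mem_map_iff_mem a.injective)
  obtain ⟨i, hi⟩ := hG.index H
  have hi0 : i ≠ 0 := by
    rintro rfl
    exact hH (index_eq_one.1 hi)
  refine ⟨i, Nat.pos_of_ne_zero hi0, ?_, hi ▸ H.index_dvd_card, ?_⟩
  · rw [← Nat.pow_dvd_pow_iff_le_right hp.out.one_lt, ← hi]
    exact (index_dvd_of_le le_sup_right).trans (index_frattini_dvd hG)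
  have hd : q ∣ Fintype.card {x : G // x ∉ H} := by
    by_contra hd
    obtain ⟨x, hx⟩ := Equiv.Perm.exists_fixed_point_of_prime (n := 1) hd
      (σ := (MulAut.toPerm G a).subtypePerm hinv) (by
        rw [pow_one, Equiv.Perm.subtypePerm_pow]
        ext x
        simp only [Equiv.Perm.subtypePerm_apply, ← map_pow, ← ha, pow_orderOf_eq_one, map_one]
        rfl)
    exact x.2 (mem_sup_left (congrArg Subtype.val hx))
  rw [Fintype.card_subtype_compl, ← Nat.card_eq_fintype_card, ← Nat.card_eq_fintype_card,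
    ← H.card_mul_index, hi, ← Nat.mul_sub_one] at hd
  refine ((Nat.Prime.dvd_mul hq).1 hd).resolve_left fun h => hqp ?_
  obtain ⟨k, hk⟩ := IsPGroup.iff_card.1 (hG.to_subgroup H)
  exact (Nat.prime_dvd_prime_iff_eq hq hp.out).1 (hq.dvd_of_dvd_pow (hk ▸ h))

theorem exists_dvd_pow_sub_one_of_not_mem_centralizer [Finite G] {p : ℕ} [hp : Fact p.Prime]
    {Q : Subgroup G} (hQ : IsPGroup p Q) {g : G} (hg : g ∈ normalizer (Q : Set G))
    (hcop : Nat.Coprime (orderOf g) p) (hc : g ∉ centralizer (Q : Set G)) :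
    ∃ q : ℕ, q.Prime ∧ q ∣ orderOf g ∧ q ≠ p ∧
      ∃ i, 1 ≤ i ∧ i ≤ Group.rank Q ∧ p ^ i ∣ Nat.card Q ∧ q ∣ p ^ i - 1 := by
  have h1 : Q.normalizerMonoidHom ⟨g, hg⟩ ≠ 1 := by
    intro h
    have : (⟨g, hg⟩ : normalizer (Q : Set G)) ∈ Q.normalizerMonoidHom.ker := h
    rw [normalizerMonoidHom_ker] at this
    exact hc this
  obtain ⟨q, hq, hd⟩ := Nat.exists_prime_and_dvd (mt orderOf_eq_one_iff.1 h1)
  have hd' : q ∣ orderOf g := by
    refine hd.trans ((orderOf_map_dvd _ _).trans ?_)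
    rw [Subgroup.orderOf_mk]
  have hqp : q ≠ p := by
    rintro rfl
    exact hq.one_lt.ne' (Nat.eq_one_of_dvd_coprimes hcop hd' dvd_rfl)
  obtain ⟨a, -, ha⟩ := exists_orderOf_eq_of_dvd hd
  exact ⟨q, hq, hd', hqp, exists_dvd_pow_sub_one hQ a hq hqp ha⟩

/-- Burnside's criterion in terms of `p'`-elements. -/
theorem hasNormalPComplement_of_abelian [Finite G] {p : ℕ} [hp : Fact p.Prime] (P : Sylow p G)
    (hab : IsMulCommutative (P : Subgroup G))
    (h : ∀ g ∈ normalizer ((P : Subgroup G) : Set G), Nat.Coprime (orderOf g) p →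
      g ∈ centralizer ((P : Subgroup G) : Set G)) : HasNormalPComplement p G := by
  refine H3.hasNormalPComplement_of_normalizer_le_centralizer P ?_
  rw [← Sylow.coe_coe, ← subgroupOf_eq_top]
  refine H44.eq_top_of_sylow_le fun q hq _ => ?_
  by_cases hqp : q = p
  · subst hqp
    exact ⟨P.subtype le_normalizer, fun x hx => (P : Subgroup G).le_centralizer hx⟩
  · obtain ⟨Q⟩ : Nonempty (Sylow q (normalizer ((P : Subgroup G) : Set G))) := inferInstance
    refine ⟨Q, fun x hx => h x x.2 ?_⟩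
    obtain ⟨k, hk⟩ := IsPGroup.iff_orderOf.1 Q.isPGroup' ⟨x, hx⟩
    rw [Subgroup.orderOf_mk] at hk
    rw [Subgroup.orderOf_coe, hk]
    exact Nat.Coprime.pow_left _ ((Nat.coprime_primes hq.out hp.out).2 hqp)

end Cfsg.Agent.H81
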