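import Cfsg.Agent.H44.Subnormal
import Cfsg.Agent.H72.Conj
import Cfsg.Agent.H2.Zipper

/-! Flavell's extension of Wielandt's zipper lemma. -/

set_option autoImplicit false

namespace Cfsg.Agent.H81

open Subgroup H44 H72

variable {G : Type*} [Group G]

theorem sn_sup [Finite G] {H A B : Subgroup G} (hA : SN H A) (hB : SN H B) : SN H (A ⊔ B) :=
  sn_iff.2 ⟨sup_le hA.le hB.le, by
    rw [H2.subgroupOf_sup_of_le hA.le hB.le]
    exact S0538.result _ _ hA.isSubnormal_subgroupOf hB.isSubnormal_subgroupOf⟩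

theorem sn_sSup [Finite G] {H : Subgroup G} (S : Set (Subgroup G)) (h : ∀ A ∈ S, SN H A) :
    SN H (sSup S) := by
  induction S, S.toFinite using Set.Finite.induction_on with
  | empty => rw [sSup_empty]; exact SN.of_normal bot_le
  | insert _ _ ih =>
    rw [sSup_insert]
    exact sn_sup (h _ (Set.mem_insert _ _)) (ih fun A hA => h A (Set.mem_insert_of_mem _ hA))

theorem sn_exists_cj {H S : Subgroup G} (h : SN H S) (hn : ¬ H ≤ normalizer (S : Set G)) :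
    ∃ x ∈ H, cj x S ≠ S ∧ cj x S ≤ normalizer (S : Set G) := by
  have key : ∀ K : Subgroup G, SN H K → S ≤ K → K ≤ normalizer (S : Set G) →
      ∃ x ∈ H, cj x S ≠ S ∧ cj x S ≤ normalizer (S : Set G) := by
    intro K hK
    induction hK with
    | refl => exact fun _ h => absurd h hn
    | step K L hKL hL hN ih =>
      intro hSK hK
      by_cases hLN : L ≤ normalizer (S : Set G)
      · exact ih (hSK.trans hKL) hLN
      · obtain ⟨x, hxL, hx⟩ := SetLike.not_le_iff_exists.1 hLN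
        exact ⟨x, hL.le hxL, fun e => hx (cj_eq_iff.1 e),
          (cj_le_of_mem_normalizer (hN hxL) hSK).trans hK⟩
  exact key S h le_rfl le_normalizer

theorem isCoatom_cj (g : G) {M : Subgroup G} (h : IsCoatom M) : IsCoatom (cj g M) := by
  refine ⟨fun e => h.1 ((cj_eq_top_iff g).1 e), fun K hK => ?_⟩
  rw [← cj_cj_inv g K, cj_lt_cj_iff] at hK
  exact (cj_eq_top_iff g⁻¹).1 (h.2 _ hK)

theorem cj_sSup (g : G) (S : Set (Subgroup G)) : cj g (sSup S) = sSup (cj g '' S) := by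
  rw [sSup_image, sSup_eq_iSup, cj_iSup]
  exact iSup_congr fun H => cj_iSup g _

/-- The configuration of a minimal counterexample to Flavell's theorem. -/
structure Flav (Ω : Set (Subgroup G)) (μ : Subgroup G → Subgroup G) : Prop where
  cj_mem : ∀ B ∈ Ω, ∀ g, cj g B ∈ Ω
  coatom : ∀ B ∈ Ω, IsCoatom (μ B)
  le : ∀ B ∈ Ω, B ≤ μ B
  not_sn : ∀ B ∈ Ω, ¬ SN (μ B) B
  sn : ∀ B ∈ Ω, ∀ H, H ≠ ⊤ → B ≤ H → ¬ H ≤ μ B → SN H B
  two : ∀ B ∈ Ω, ∀ C ∈ Ω, B ≠ C → μ B = μ C → ∀ K, IsCoatom K → B ≤ K → C ≤ K → K = μ B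
  nn : ∀ B ∈ Ω, ∀ N, B ≤ N → N ≠ ⊤ → normalizer (N : Set G) ≠ ⊤

/-- Subgroups generated by members of `Ω` that lie in two maximal subgroups. -/
def FlavF (Ω : Set (Subgroup G)) (E : Subgroup G) : Prop :=
  sSup {B | B ∈ Ω ∧ B ≤ E} = E ∧ (∃ B ∈ Ω, B ≤ E) ∧
    ∃ K L, IsCoatom K ∧ IsCoatom L ∧ K ≠ L ∧ E ≤ K ∧ E ≤ L

/-- Those of largest order. -/
def FlavE (Ω : Set (Subgroup G)) (E : Subgroup G) : Prop :=
  FlavF Ω E ∧ ∀ E', FlavF Ω E' → Nat.card E' ≤ Nat.card E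

/-- The join of the members of `Ω` in `E` other than `B`. -/
def flavJ (Ω : Set (Subgroup G)) (E B : Subgroup G) : Subgroup G :=
  sSup {C | C ∈ Ω ∧ C ≤ E ∧ C ≠ B}

theorem flavJ_le (Ω : Set (Subgroup G)) (E B : Subgroup G) : flavJ Ω E B ≤ E :=
  sSup_le fun _ h => h.2.1

theorem le_flavJ {Ω : Set (Subgroup G)} {E B C : Subgroup G} (h1 : C ∈ Ω) (h2 : C ≤ E)
    (h3 : C ≠ B) : C ≤ flavJ Ω E B := le_sSup ⟨h1, h2, h3⟩

theorem coatom_eq_of_le {K L : Subgroup G} (hK : IsCoatom K) (hL : IsCoatom L) (h : K ≤ L) :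
    K = L := (hK.le_iff_eq hL.1).1 h |>.symm

namespace Flav

variable {Ω : Set (Subgroup G)} {μ : Subgroup G → Subgroup G}

theorem mu_cj (h : Flav Ω μ) {B : Subgroup G} (hB : B ∈ Ω) (g : G) : μ (cj g B) = cj g (μ B) := by
  have h1 := isCoatom_cj g (h.coatom B hB)
  refine (coatom_eq_of_le h1 (h.coatom _ (h.cj_mem B hB g)) ?_).symm
  by_contra hc
  have h2 := (h.sn _ (h.cj_mem B hB g) _ h1.1 (cj_mono g (h.le B hB)) hc).map
    (MulAut.conj g⁻¹).toMonoidHom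
  exact h.not_sn B hB (by rwa [← cj, ← cj, cj_inv_cj, cj_inv_cj] at h2)

theorem mem_mu (h : Flav Ω μ) {B : Subgroup G} (hB : B ∈ Ω) {g : G} (hg : cj g B = B) :
    g ∈ μ B := by
  have h1 := h.mu_cj hB g
  rw [hg] at h1
  have h2 : normalizer (μ B : Set G) = μ B :=
    ((h.coatom B hB).le_iff_eq (h.nn B hB _ (h.le B hB) (h.coatom B hB).1)).1 le_normalizer
  exact h2 ▸ cj_eq_iff.1 h1.symm

theorem flavF_cj (h : Flav Ω μ) {E : Subgroup G} (hE : FlavF Ω E) (g : G) : FlavF Ω (cj g E) := by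
  obtain ⟨h1, ⟨B, hB, hBE⟩, K, L, hK, hL, hKL, hEK, hEL⟩ := hE
  refine ⟨le_antisymm (sSup_le fun _ h => h.2) ?_, ⟨_, h.cj_mem B hB g, cj_mono g hBE⟩, _, _,
    isCoatom_cj g hK, isCoatom_cj g hL, fun e => hKL ((cj_inj g).1 e), cj_mono g hEK,
    cj_mono g hEL⟩
  conv_lhs => rw [← h1, cj_sSup]
  refine sSup_le_sSup ?_
  rintro _ ⟨C, hC, rfl⟩
  exact ⟨h.cj_mem C hC.1 g, cj_mono g hC.2⟩

theorem flavE_cj (h : Flav Ω μ) {E : Subgroup G} (hE : FlavE Ω E) (g : G) : FlavE Ω (cj g E) :=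
  ⟨h.flavF_cj hE.1 g, fun E' hE' => by rw [card_cj]; exact hE.2 E' hE'⟩

theorem flavJ_cj (h : Flav Ω μ) (E B : Subgroup G) (g : G) :
    flavJ Ω (cj g E) (cj g B) = cj g (flavJ Ω E B) := by
  rw [flavJ, flavJ, cj_sSup]
  congr 1
  ext C
  constructor
  · rintro ⟨h1, h2, h3⟩
    exact ⟨cj g⁻¹ C, ⟨h.cj_mem C h1 _, (le_cj_iff g).1 h2, fun e => h3 (by rw [← e, cj_cj_inv])⟩,
      cj_cj_inv g C⟩
  · rintro ⟨D, ⟨h1, h2, h3⟩, rfl⟩
    exact ⟨h.cj_mem D h1 g, cj_mono g h2, fun e => h3 ((cj_inj g).1 e)⟩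

theorem eq_of_mu_eq (h : Flav Ω μ) {E B C : Subgroup G} (hE : FlavF Ω E) (hB : B ∈ Ω)
    (hC : C ∈ Ω) (hBE : B ≤ E) (hCE : C ≤ E) (e : μ B = μ C) : B = C := by
  obtain ⟨-, -, K, L, hK, hL, hKL, hEK, hEL⟩ := hE
  by_contra hne
  exact hKL ((h.two B hB C hC hne e K hK (hBE.trans hEK) (hCE.trans hEK)).trans
    (h.two B hB C hC hne e L hL (hBE.trans hEL) (hCE.trans hEL)).symm)

theorem coatom_eq [Finite G] {E B K L : Subgroup G} (hE : FlavE Ω E) (hB : B ∈ Ω) (hBE : ¬ B ≤ E)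
    (hK : IsCoatom K) (hL : IsCoatom L) (h1 : E ≤ K) (h2 : B ≤ K) (h3 : E ≤ L) (h4 : B ≤ L) :
    K = L := by
  by_contra hne
  have h5 := hE.2 (E ⊔ B) ⟨le_antisymm (sSup_le fun _ h => h.2) (sup_le ?_ (le_sSup
    ⟨hB, le_sup_right⟩)), ⟨B, hB, le_sup_right⟩, K, L, hK, hL, hne, sup_le h1 h2, sup_le h3 h4⟩
  · exact hBE (le_sup_right.trans (eq_of_le_of_card_ge le_sup_left h5).ge)
  · conv_lhs => rw [← hE.1.1]
    exact sSup_le_sSup fun C hC => ⟨hC.1, hC.2.trans le_sup_left⟩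

theorem normalizer_ne_top (h : Flav Ω μ) {E : Subgroup G} (hE : FlavF Ω E) :
    normalizer (E : Set G) ≠ ⊤ := by
  obtain ⟨-, ⟨B, hB, hBE⟩, K, -, hK, -, -, hEK, -⟩ := hE
  exact h.nn B hB E hBE fun e => hK.1 (top_le_iff.1 (e ▸ hEK))

theorem eq_or_exists [Finite G] (h : Flav Ω μ) {E K L : Subgroup G} (hE : FlavE Ω E)
    (hK : IsCoatom K) (hL : IsCoatom L) (hEK : E ≤ K) (hN : normalizer (E : Set G) ≤ L) :
    K = L ∨ ∃ B ∈ Ω, B ≤ E ∧ E ≤ μ B ∧ K = μ B := by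
  by_contra hc
  rw [not_or] at hc
  have h1 : SN K E := by
    rw [← hE.1.1]
    refine sn_sSup _ fun B hB => h.sn B hB.1 K hK.1 (hB.2.trans hEK) fun e => ?_
    exact hc.2 ⟨B, hB.1, hB.2, hEK.trans e, coatom_eq_of_le hK (h.coatom B hB.1) e⟩
  by_cases h2 : K ≤ normalizer (E : Set G)
  · exact hc.1 (coatom_eq_of_le hK hL (h2.trans hN))
  obtain ⟨x, hx, h3, h4⟩ := sn_exists_cj h1 h2
  have h5 := (h.flavF_cj hE.1 x).1
  have h6 : ¬ sSup {B | B ∈ Ω ∧ B ≤ cj x E} ≤ E := fun e =>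
    h3 (eq_of_le_of_card_ge (h5 ▸ e) (card_cj x E).ge)
  rw [sSup_le_iff] at h6
  push Not at h6
  obtain ⟨B, ⟨hB, hB1⟩, hB2⟩ := h6
  exact hc.1 (coatom_eq hE hB hB2 hK hL hEK (hB1.trans (cj_le_of_mem hx hEK))
    (le_normalizer.trans hN) ((hB1.trans h4).trans hN))

theorem good_or [Finite G] (h : Flav Ω μ) {E B : Subgroup G} (hE : FlavF Ω E) (hB : B ∈ Ω)
    (hBE : B ≤ E) (hEB : E ≤ μ B) :
    (∃ y ∈ μ B, cj y (flavJ Ω E B) = flavJ Ω E B ∧ cj y B ≠ B) ∨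
      ∃ C ∈ Ω, ¬ C ≤ E ∧ C ≤ normalizer (E : Set G) ∧ C ≤ μ B := by
  by_contra hc
  rw [not_or] at hc
  obtain ⟨h1, h2⟩ := hc
  push Not at h1
  have h3 : SN (μ B) (flavJ Ω E B) := by
    refine sn_sSup _ fun C hC => h.sn C hC.1 _ (h.coatom B hB).1 (hC.2.1.trans hEB) fun e => ?_
    exact hC.2.2 (h.eq_of_mu_eq hE hC.1 hB hC.2.1 hBE
      (coatom_eq_of_le (h.coatom B hB) (h.coatom C hC.1) e).symm)
  by_cases h4 : μ B ≤ normalizer (flavJ Ω E B : Set G)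
  · exact h.not_sn B hB (SN.of_le_normalizer (h.le B hB) fun y hy =>
      cj_eq_iff.1 (h1 y hy (cj_eq_iff.2 (h4 hy))))
  obtain ⟨m, hm, h5, h6⟩ := sn_exists_cj h3 h4
  have h7 : ¬ cj m (flavJ Ω E B) ≤ flavJ Ω E B := fun e =>
    h5 (eq_of_le_of_card_ge e (card_cj m _).ge)
  nth_rewrite 1 [flavJ] at h7 h6
  rw [cj_sSup, sSup_le_iff] at h7 h6
  push Not at h7
  obtain ⟨_, ⟨C, hC, rfl⟩, h8⟩ := h7
  have h9 := h6 _ ⟨C, hC, rfl⟩
  have h10 : cj m C ≤ μ B := cj_le_of_mem hm (hC.2.1.trans hEB)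
  have hEq : B ⊔ flavJ Ω E B = E := by
    refine le_antisymm (sup_le hBE (flavJ_le _ _ _)) ?_
    conv_lhs => rw [← hE.1]
    refine sSup_le fun D hD => ?_
    by_cases e : D = B
    · exact e ▸ le_sup_left
    · exact (le_flavJ hD.1 hD.2 e).trans le_sup_right
  refine h2 ⟨_, h.cj_mem C hC.1 m, fun e => h8 (le_flavJ (h.cj_mem C hC.1 m) e fun e' => ?_),
    fun y hy => ?_, h10⟩
  · have h11 := h.mu_cj hC.1 m
    rw [e', ← cj_eq_of_mem hm, cj_inj] at h11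
    exact hC.2.2 (h.eq_of_mu_eq hE hC.1 hB hC.2.1 hBE h11.symm)
  · have h11 := cj_eq_iff.2 (h9 hy)
    rw [← cj_eq_iff, ← hEq, cj_sup, h11, h1 y (h10 hy) h11]

theorem exists_good [Finite G] (h : Flav Ω μ) {E A : Subgroup G} (hE : FlavE Ω E) (hA : A ∈ Ω)
    (hAE : A ≤ E) (hEA : E ≤ μ A) :
    ∃ B ∈ Ω, B ≤ E ∧ E ≤ μ B ∧ B ≠ A ∧
      ∃ y ∈ μ B, cj y (flavJ Ω E B) = flavJ Ω E B ∧ cj y B ≠ B := by
  have hconj : ∀ n ∈ normalizer (E : Set G), cj n A ≤ E ∧ E ≤ μ (cj n A) := fun n hn =>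
    ⟨cj_le_of_mem_normalizer hn hAE, by
      rw [h.mu_cj hA, ← cj_eq_iff.2 hn]; exact cj_mono n hEA⟩
  obtain ⟨B, hB, hBE, hEB, hBA⟩ : ∃ B ∈ Ω, B ≤ E ∧ E ≤ μ B ∧ B ≠ A := by
    by_contra hc
    push Not at hc
    have h1 : normalizer (E : Set G) ≤ μ A := fun n hn =>
      h.mem_mu hA (hc _ (h.cj_mem A hA n) (hconj n hn).1 (hconj n hn).2)
    have h2 : ∀ K, IsCoatom K → E ≤ K → K = μ A := fun K hK hEK =>
      (h.eq_or_exists hE hK (h.coatom A hA) hEK h1).elim id fun ⟨B, hB, h3, h4, h5⟩ => by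
        rw [h5, hc B hB h3 h4]
    obtain ⟨-, -, K, L, hK, hL, hKL, hEK, hEL⟩ := hE.1
    exact hKL ((h2 K hK hEK).trans (h2 L hL hEL).symm)
  rcases h.good_or hE.1 hB hBE hEB with h1 | ⟨C, hC, hC1, hC2, hC3⟩
  · exact ⟨B, hB, hBE, hEB, hBA, h1⟩
  have h2 : ¬ C ≤ μ A := fun e => hBA (h.eq_of_mu_eq hE.1 hB hA hBE hAE
    (coatom_eq hE hC hC1 (h.coatom B hB) (h.coatom A hA) hEB hC3 hEA e))
  obtain ⟨b, hb, hb'⟩ := SetLike.not_le_iff_exists.1 h2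
  have hA' := h.cj_mem A hA b
  obtain ⟨h3, h4⟩ := hconj b (hC2 hb)
  rcases h.good_or hE.1 hA' h3 h4 with h1 | ⟨D, hD, hD1, hD2, hD3⟩
  · exact ⟨_, hA', h3, h4, fun e => hb' (h.mem_mu hA e), h1⟩
  exfalso
  obtain ⟨K, hK, hNK⟩ := (eq_top_or_exists_le_coatom _).resolve_left (h.normalizer_ne_top hE.1)
  have h5 := coatom_eq hE hC hC1 (h.coatom B hB) hK hEB hC3 (le_normalizer.trans hNK)
    (hC2.trans hNK)
  have h6 := coatom_eq hE hD hD1 (h.coatom _ hA') hK h4 hD3 (le_normalizer.trans hNK)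
    (hD2.trans hNK)
  rw [h.mu_cj hA, ← h5, ← cj_eq_of_mem (hC3 hb), cj_inj] at h6
  exact hBA (h.eq_of_mu_eq hE.1 hB hA hBE hAE h6.symm)

end Flav

/-- Edges between the maximal configurations, with a label different from `M`. -/
def FlavR (Ω : Set (Subgroup G)) (μ : Subgroup G → Subgroup G) (M E E' : Subgroup G) : Prop :=
  FlavE Ω E' ∧ ∃ B ∈ Ω, ∃ B' ∈ Ω, B ≤ E ∧ E ≤ μ B ∧ μ B ≠ M ∧ flavJ Ω E B = flavJ Ω E' B'

theorem Flav.le_of_reach {Ω : Set (Subgroup G)} {μ : Subgroup G → Subgroup G}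
    {E E' A : Subgroup G} (hA : A ∈ Ω) (hAE : A ≤ E)
    (hr : Relation.ReflTransGen (FlavR Ω μ (μ A)) E E') : A ≤ E' := by
  induction hr with
  | refl => exact hAE
  | tail _ h2 ih =>
    obtain ⟨-, B, -, B', -, -, -, h3, h4⟩ := h2
    exact ((le_flavJ hA ih fun e => h3 (e ▸ rfl)).trans h4.le).trans (flavJ_le _ _ _)

theorem Flav.not_flavF [Finite G] {Ω : Set (Subgroup G)} {μ : Subgroup G → Subgroup G}
    (h : Flav Ω μ) (E : Subgroup G) : ¬ FlavF Ω E := by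
  intro hE₀
  obtain ⟨E₁, hE₁, hE₁'⟩ := Set.exists_max_image {E | FlavF Ω E} (fun E => Nat.card E)
    (Set.toFinite _) ⟨E, hE₀⟩
  have hE₂ : FlavE Ω E₁ := ⟨hE₁, hE₁'⟩
  obtain ⟨A₁, hA₁, hA₂, hA₃⟩ : ∃ A ∈ Ω, A ≤ E₁ ∧ E₁ ≤ μ A := by
    by_contra hc
    obtain ⟨M, hM, hNM⟩ := (eq_top_or_exists_le_coatom _).resolve_left (h.normalizer_ne_top hE₁)
    have h2 : ∀ K, IsCoatom K → E₁ ≤ K → K = M := fun K hK hEK =>
      (h.eq_or_exists hE₂ hK hM hEK hNM).elim id fun ⟨B, hB, h3, h4, _⟩ =>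
        absurd ⟨B, hB, h3, h4⟩ hc
    obtain ⟨-, -, K, L, hK, hL, hKL, hEK, hEL⟩ := hE₁
    exact hKL ((h2 K hK hEK).trans (h2 L hL hEL).symm)
  obtain ⟨⟨E, A⟩, ⟨hE, hA, hAE, hEA⟩, hmin⟩ := Set.exists_min_image
    {p : Subgroup G × Subgroup G | FlavE Ω p.1 ∧ p.2 ∈ Ω ∧ p.2 ≤ p.1 ∧ p.1 ≤ μ p.2}
    (fun p => {E' | Relation.ReflTransGen (FlavR Ω μ (μ p.2)) p.1 E'}.ncard) (Set.toFinite _)
    ⟨(E₁, A₁), hE₂, hA₁, hA₂, hA₃⟩
  dsimp only at hE hA hAE hEA hmin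
  obtain ⟨B, hB, hBE, hEB, hBA, y, hy, hyJ, hyB⟩ := h.exists_good hE hA hAE hEA
  have hB' := h.cj_mem B hB y
  have hμ : μ (cj y B) = μ B := by rw [h.mu_cj hB, cj_eq_of_mem hy]
  have hμ' : μ B ≠ μ A := fun e => hBA (h.eq_of_mu_eq hE.1 hB hA hBE hAE e)
  have hE' := h.flavE_cj hE y
  have h1 := hmin (cj y E, cj y B) ⟨hE', hB', cj_mono y hBE, hμ ▸ cj_le_of_mem hy hEB⟩
  refine absurd h1 (not_le.2 (Set.ncard_lt_ncard ⟨fun E' hr => ?_, fun hs => ?_⟩ (Set.toFinite _)))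
  · dsimp only [Set.mem_setOf_eq] at hr ⊢
    induction hr with
    | refl =>
      exact Relation.ReflTransGen.single
        ⟨hE', B, hB, _, hB', hBE, hEB, hμ', by rw [h.flavJ_cj, hyJ]⟩
    | tail h2 h3 ih =>
      obtain ⟨h4, C, hC, C', hC', h5, h6, -, h7⟩ := h3
      refine ih.tail ⟨h4, C, hC, C', hC', h5, h6, fun e => hμ' ?_, h7⟩
      exact (h.two B hB _ hB' hyB.symm hμ.symm _ (h.coatom A hA) (hBE.trans hEA)
        (e ▸ (Flav.le_of_reach hB' (cj_mono y hBE) h2).trans h6)).symm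
  · exact hyB (h.eq_of_mu_eq hE.1 hB' hB
      (Flav.le_of_reach hB' (cj_mono y hBE) (hs Relation.ReflTransGen.refl)) hBE hμ)

/-- `H` is generated by its conjugates of `A`. -/
def NC (A H : Subgroup G) : Prop :=
  A ≤ H ∧ ∀ L, A ≤ L → L ≤ H → H ≤ normalizer (L : Set G) → L = H

theorem NC.eq_of_sn {A H L : Subgroup G} (h : NC A H) (hA : A ≤ L) (hL : SN H L) : L = H := by
  by_contra hne
  obtain ⟨M, h1, h2, h3⟩ := hL.exists_lt hne
  exact h2.ne (h.2 M (hA.trans h1) h2.le h3)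

theorem NC.trans {A B H : Subgroup G} (h1 : NC A B) (h2 : NC B H) : NC A H := by
  refine ⟨h1.1.trans h2.1, fun L hA hL hn => h2.2 L ?_ hL hn⟩
  exact inf_eq_right.1 (h1.2 _ (le_inf hA h1.1) inf_le_right
    (le_normalizer_inf (h2.1.trans hn) le_normalizer))

theorem exists_sn_nc [Finite G] {A H : Subgroup G} (h : A ≤ H) : ∃ B, SN H B ∧ NC A B := by
  obtain ⟨B, ⟨h1, h2⟩, h3⟩ := Set.exists_min_image {B | SN H B ∧ A ≤ B} (fun B => Nat.card B)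
    (Set.toFinite _) ⟨H, SN.refl, h⟩
  exact ⟨B, h1, h2, fun L hA hL hn => eq_of_le_of_card_ge hL
    (h3 L ⟨h1.trans (SN.of_le_normalizer hL hn), hA⟩)⟩

theorem nc_iff {A H : Subgroup G} (h : A ≤ H) :
    NC A H ↔ normalClosure ((A.subgroupOf H : Subgroup H) : Set H) = ⊤ := by
  constructor
  · intro h1
    apply map_injective H.subtype_injective
    rw [← MonoidHom.range_eq_map, range_subtype]
    refine h1.2 _ ?_ (map_subtype_le _) ?_
    · conv_lhs => rw [← map_subgroupOf_eq_of_le h]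
      exact map_mono le_normalClosure
    · rw [← normal_subgroupOf_iff_le_normalizer (map_subtype_le _), subgroupOf,
        comap_map_eq_self_of_injective H.subtype_injective]
      infer_instance
  · refine fun h1 => ⟨h, fun L hA hL hn => le_antisymm hL ?_⟩
    have := (normal_subgroupOf_iff_le_normalizer hL).2 hn
    rw [← subgroupOf_eq_top, eq_top_iff, ← h1]
    exact normalClosure_le_normal (subgroupOf_mono H hA)

/-- Flavell's theorem, in the form of a generalised zipper lemma. -/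
theorem unique_coatom_of_nc [Finite G] (n : ℕ) : ∀ (A Y : Subgroup G), A.index = n → NC A ⊤ →
    A ≠ ⊤ → Y ≠ ⊤ → (∀ H, H ≠ ⊤ → NC A H → H ≤ Y) →
    ∀ K L, IsCoatom K → IsCoatom L → A ≤ K → A ≤ L → K = L := by
  induction n using Nat.strong_induction_on with
  | _ n ih =>
  intro A Y hn hA hA1 hY hAY
  have ih' : ∀ (g : G) (B Z : Subgroup G), cj g A < B → B ≠ ⊤ → Z ≠ ⊤ →
      (∀ H, H ≠ ⊤ → NC B H → H ≤ Z) →
      ∀ K L, IsCoatom K → IsCoatom L → B ≤ K → B ≤ L → K = L := by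
    intro g B Z hlt hB hZ hBZ
    refine ih B.index ?_ B Z rfl ⟨le_top, fun L hBL _ hL => ?_⟩ hB hZ hBZ
    · rw [← hn, ← index_map_equiv A (MulAut.conj g)]
      exact index_strictAnti hlt
    · rw [← cj_eq_top_iff g⁻¹]
      refine hA.2 _ ((cj_le_iff g).1 (hlt.le.trans hBL)) le_top ?_
      rw [← cj_normalizer, top_le_iff.1 hL, cj_top]
  by_cases hsn : ∀ H, H ≠ ⊤ → A ≤ H → SN H A
  · intro K L hK hL hAK hAL
    exact H2.zipper A (fun H hH hAH => (hsn H hH hAH).isSubnormal_subgroupOf)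
      (fun e => hA1 (hA.eq_of_sn le_rfl (sn_top_iff.2 e))) hK hL hAK hAL
  obtain ⟨M, hM, hYM⟩ := (eq_top_or_exists_le_coatom _).resolve_left hY
  have ha : ∀ H, H ≠ ⊤ → A ≤ H → ¬ H ≤ M → SN H A := by
    intro H hH hAH hHM
    obtain ⟨B, hB1, hB2⟩ := exists_sn_nc hAH
    rcases hB2.1.eq_or_lt with rfl | hlt
    · exact hB1
    have hB : B ≠ ⊤ := fun e => hH (top_le_iff.1 (e ▸ hB1.le))
    obtain ⟨K, hK, hHK⟩ := (eq_top_or_exists_le_coatom _).resolve_left hH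
    refine absurd (hHK.trans (ih' 1 B Y (by rwa [cj_one]) hB hY (fun L hL h =>
      hAY L hL (hB2.trans h)) K M hK hM (hB1.le.trans hHK) ((hAY B hB hB2).trans hYM)).le) hHM
  have hAM : A ≤ M := (hAY A hA1 ⟨le_rfl, fun L h1 h2 _ => le_antisymm h2 h1⟩).trans hYM
  have hb : ¬ SN M A := fun e => hsn fun H hH hAH => by
    by_cases hHM : H ≤ M
    · exact e.mono hAH hHM
    · exact ha H hH hAH hHM
  have ha' : ∀ g H, H ≠ ⊤ → cj g A ≤ H → ¬ H ≤ cj g M → SN H (cj g A) := by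
    intro g H hH h1 h2
    have := (ha (cj g⁻¹ H) (fun e => hH ((cj_eq_top_iff _).1 e)) ((cj_le_iff g).1 h1)
      fun e => h2 ((le_cj_iff g).2 e)).map (MulAut.conj g).toMonoidHom
    rwa [← cj, ← cj, cj_cj_inv] at this
  have hb' : ∀ g, ¬ SN (cj g M) (cj g A) := fun g e => hb (by
    have := e.map (MulAut.conj g⁻¹).toMonoidHom
    rwa [← cj, ← cj, cj_inv_cj, cj_inv_cj] at this)
  classical
  let μ : Subgroup G → Subgroup G := fun B =>
    if h : ∃ K, IsCoatom K ∧ B ≤ K ∧ ¬ SN K B then h.choose else ⊤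
  have hμ : ∀ g, μ (cj g A) = cj g M := by
    intro g
    have h1 : ∃ K, IsCoatom K ∧ cj g A ≤ K ∧ ¬ SN K (cj g A) :=
      ⟨_, isCoatom_cj g hM, cj_mono g hAM, hb' g⟩
    simp only [μ, dif_pos h1]
    obtain ⟨h2, h3, h4⟩ := h1.choose_spec
    refine coatom_eq_of_le h2 (isCoatom_cj g hM) ?_
    by_contra hc
    exact h4 (ha' g _ h2.1 h3 hc)
  have hF : Flav (Set.range fun g => cj g A) μ := by
    constructor
    · rintro _ ⟨g, rfl⟩ x
      exact ⟨x * g, cj_mul x g A⟩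
    · rintro _ ⟨g, rfl⟩
      exact hμ g ▸ isCoatom_cj g hM
    · rintro _ ⟨g, rfl⟩
      exact hμ g ▸ cj_mono g hAM
    · rintro _ ⟨g, rfl⟩
      exact hμ g ▸ hb' g
    · rintro _ ⟨g, rfl⟩
      exact hμ g ▸ ha' g
    · rintro _ ⟨g, rfl⟩ _ ⟨x, rfl⟩ hne e K hK h1 h2
      dsimp only at *
      rw [hμ, hμ] at e
      rw [hμ]
      have h3 : cj x A ≤ cj g M := e ▸ cj_mono x hAM
      have h4 := sup_le (cj_mono g hAM) h3
      have h5 := isCoatom_cj g hM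
      refine ih' g (cj g A ⊔ cj x A) (cj g M) (lt_of_le_of_ne le_sup_left fun e' => hne ?_)
        (fun e' => h5.1 (top_le_iff.1 (e' ▸ h4))) h5.1 (fun H hH hc => ?_) K _ hK h5
        (sup_le h1 h2) h4
      · exact (eq_of_le_of_card_ge (le_sup_right.trans e'.ge)
          ((card_cj g A).trans (card_cj x A).symm).le).symm
      · by_contra h6
        exact h6 ((hc.eq_of_sn le_rfl (sn_sup (ha' g H hH (le_sup_left.trans hc.1) h6)
          (ha' x H hH (le_sup_right.trans hc.1) (e ▸ h6)))).ge.trans h4)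
    · rintro _ ⟨g, rfl⟩ N h1 h2 h3
      refine h2 ((cj_eq_top_iff g⁻¹).1 (hA.2 _ ((cj_le_iff g).1 h1) le_top ?_))
      rw [← cj_normalizer, h3, cj_top]
  intro K L hK hL hAK hAL
  by_contra hne
  have hA' : A ∈ Set.range fun g => cj g A := ⟨1, cj_one A⟩
  exact hF.not_flavF A ⟨le_antisymm (sSup_le fun _ h => h.2) (le_sSup ⟨hA', le_rfl⟩),
    ⟨A, hA', le_rfl⟩, K, L, hK, hL, hne, hAK, hAL⟩

end Cfsg.Agent.H81
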