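import Mathlib.LinearAlgebra.Matrix.Charpoly.FiniteField
import Mathlib.SetTheory.Cardinal.Finite

/-! The regular case of the friendship theorem. -/

set_option autoImplicit false

namespace Cfsg.Agent.H81

open Finset Matrix

/-- No regular graph of degree at least three has exactly one common neighbour for any two
distinct vertices. -/
theorem friendship_regular {V : Type*} [Finite V] [Nonempty V] (adj : V → V → Prop)
    (hsymm : ∀ x y, adj x y → adj y x) (hirr : ∀ x, ¬ adj x x) (d : ℕ) (hd : 3 ≤ d)
    (hreg : ∀ x, Nat.card {y // adj x y} = d)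
    (hfr : ∀ x y, x ≠ y → ∃! z, adj x z ∧ adj y z) : False := by
  classical
  have := Fintype.ofFinite V
  obtain ⟨p, hp, hpd⟩ := Nat.exists_prime_and_dvd (n := d - 1) (by omega)
  have := Fact.mk hp
  have hd1 : (d : ZMod p) = 1 := by
    have : ((d - 1 : ℕ) : ZMod p) = 0 := (ZMod.natCast_eq_zero_iff _ _).2 hpd
    rw [Nat.cast_sub (by omega), Nat.cast_one, sub_eq_zero] at this
    exact this
  let A : Matrix V V (ZMod p) := Matrix.of fun i j => if adj i j then 1 else 0
  let J : Matrix V V (ZMod p) := Matrix.of fun _ _ => 1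
  have hreg' : ∀ x, (univ.filter (adj x)).card = d := fun x => by
    rw [← hreg x, Nat.card_eq_fintype_card, Fintype.card_subtype]
  have hAJ : A * J = J := by
    ext i j
    simp only [A, J, Matrix.mul_apply, Matrix.of_apply, mul_one, Finset.sum_boole, hreg', hd1]
  have hAA : A * A = J := by
    ext i j
    simp only [A, J, Matrix.mul_apply, Matrix.of_apply, ite_mul, one_mul, zero_mul, ← ite_and,
      Finset.sum_boole]
    by_cases hij : i = j
    · subst hij
      rw [← hd1, ← hreg' i]
      congr 2
      ext k
      simp only [mem_filter, mem_univ, true_and]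
      exact ⟨fun h => h.1, fun h => ⟨h, hsymm _ _ h⟩⟩
    · obtain ⟨z, hz, huniq⟩ := hfr i j hij
      have : (univ.filter fun k => adj i k ∧ adj k j) = {z} := by
        ext k
        simp only [mem_filter, mem_univ, true_and, mem_singleton]
        exact ⟨fun h => huniq k ⟨h.1, hsymm _ _ h.2⟩, fun h => h ▸ ⟨hz.1, hsymm _ _ hz.2⟩⟩
      rw [this]; simp
  have hpow : ∀ k : ℕ, A ^ (k + 2) = J := by
    intro k
    induction k with
    | zero => rw [zero_add, pow_two, hAA]
    | succ k ih => rw [add_right_comm, pow_succ', ih, hAJ]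
  have hJJ : J * J = J := by
    nth_rewrite 1 [← hAA]
    rw [Matrix.mul_assoc, hAJ, hAJ]
  have hv : (Fintype.card V : ZMod p) = 1 := by
    obtain ⟨x⟩ := ‹Nonempty V›
    have := congrFun (congrFun hJJ x) x
    simpa [J, Matrix.mul_apply] using this
  have h1 := ZMod.trace_pow_card A
  have h2 : A ^ p = J := by
    rw [← hpow (p - 2)]; congr 1; have := hp.two_le; omega
  have h3 : trace A = 0 := by simp [A, Matrix.trace, hirr]
  have h4 : trace J = 1 := by simp [J, Matrix.trace, hv]
  rw [h2, h3, h4, zero_pow hp.ne_zero] at h1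
  exact one_ne_zero h1

end Cfsg.Agent.H81
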