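import Mathlib

set_option autoImplicit false

namespace Cfsg.Agent.H81

open Nat

theorem succ_le_two_pow_div_seven (s : ℕ) (hs : 42 ≤ s) : s + 1 ≤ 2 ^ (s / 7) := by
  have key : ∀ k : ℕ, 6 ≤ k → 7 * k + 7 ≤ 2 ^ k := by
    intro k hk
    induction k, hk using Nat.le_induction with
    | base => norm_num
    | succ k hk ih => rw [pow_succ]; omega
  have := key (s / 7) (by omega)
  omega

theorem two_primes_main_ineq (n : ℕ) (hn : 882 ≤ n) :
    n * ((2 * n) ^ (sqrt (2 * n) + 3) * 4 ^ (2 * n / 3)) ≤ 4 ^ n := by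
  set s := sqrt (2 * n) with hs
  have h42 : 42 ≤ s := by
    rw [hs, Nat.le_sqrt]
    omega
  have h1 : s * s ≤ 2 * n := Nat.sqrt_le _
  have h2 : 2 * n < (s + 1) * (s + 1) := Nat.lt_succ_sqrt _
  have h3 := succ_le_two_pow_div_seven s h42
  have h4 : 2 * n ≤ 4 ^ (s / 7) := by
    have : (4 : ℕ) ^ (s / 7) = 2 ^ (s / 7) * 2 ^ (s / 7) := by
      rw [← mul_pow]
      norm_num
    rw [this]
    exact h2.le.trans (Nat.mul_le_mul h3 h3)
  have h5 : n * (2 * n) ^ (s + 3) ≤ (2 * n) ^ (s + 4) := by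
    rw [pow_succ' (2 * n) (s + 3)]
    exact Nat.mul_le_mul_right _ (by omega)
  have h6 : (2 * n) ^ (s + 4) ≤ 4 ^ ((s / 7) * (s + 4)) := by
    rw [pow_mul]
    exact Nat.pow_le_pow_left h4 _
  have h7 : (s / 7) * (s + 4) + 2 * n / 3 ≤ n := by
    have h8 : 7 * (s / 7) ≤ s := Nat.mul_div_le s 7
    have h9 : 6 * ((s / 7) * (s + 4)) ≤ s * s := by
      have h10 : 7 * (6 * ((s / 7) * (s + 4))) ≤ s * (6 * (s + 4)) := by
        calc 7 * (6 * ((s / 7) * (s + 4))) = (7 * (s / 7)) * (6 * (s + 4)) := by ring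
          _ ≤ s * (6 * (s + 4)) := Nat.mul_le_mul_right _ h8
      have h11 : s * (6 * (s + 4)) ≤ s * (7 * s) := Nat.mul_le_mul_left _ (by omega)
      nlinarith
    omega
  calc n * ((2 * n) ^ (s + 3) * 4 ^ (2 * n / 3))
      = (n * (2 * n) ^ (s + 3)) * 4 ^ (2 * n / 3) := by ring
    _ ≤ 4 ^ ((s / 7) * (s + 4)) * 4 ^ (2 * n / 3) := Nat.mul_le_mul_right _ (h5.trans h6)
    _ = 4 ^ ((s / 7) * (s + 4) + 2 * n / 3) := by rw [pow_add]
    _ ≤ 4 ^ n := Nat.pow_le_pow_right (by norm_num) h7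

theorem centralBinom_le_of_few_primes (n : ℕ) (n_large : 2 < n) (T : Finset ℕ)
    (hT : ∀ p : ℕ, p.Prime → n < p → p ≤ 2 * n → p ∈ T) (hTc : T.card ≤ 3) :
    centralBinom n ≤ (2 * n) ^ (sqrt (2 * n) + 3) * 4 ^ (2 * n / 3) := by
  have n_pos : 0 < n := (Nat.zero_le _).trans_lt n_large
  have n2_pos : 1 ≤ 2 * n := mul_pos (zero_lt_two' ℕ) n_pos
  let S := {p ∈ Finset.range (2 * n / 3 + 1) | Nat.Prime p}
  let f x := x ^ n.centralBinom.factorization x
  have hf1 : ∀ x, 1 ≤ f x := by
    intro x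
    by_cases hx : x.Prime
    · exact Nat.one_le_pow _ _ hx.pos
    · simp only [f]
      rw [factorization_eq_zero_of_not_prime n.centralBinom hx, _root_.pow_zero]
  have h0 : centralBinom n ≤ ∏ x ∈ S ∪ T, f x := by
    rw [← n.prod_pow_factorization_centralBinom]
    have : ∏ p ∈ Finset.range (2 * n + 1), f p =
        ∏ p ∈ (Finset.range (2 * n + 1)).filter (· ∈ S ∪ T), f p := by
      symm
      refine Finset.prod_filter_of_ne fun x hx h => ?_
      by_contra hc
      apply h
      rw [Finset.mem_union, not_or] at hc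
      rw [Finset.mem_range, Nat.lt_succ_iff] at hx
      by_cases hp : x.Prime
      · have h1 : x ≤ n := by
          by_contra h1
          exact hc.2 (hT x hp (by omega) hx)
        have h2 : 2 * n < 3 * x := by
          have := hc.1
          simp only [S, Finset.mem_filter, Finset.mem_range, hp, and_true] at this
          omega
        simp only [f]
        rw [factorization_centralBinom_of_two_mul_self_lt_three_mul n_large h1 h2, Nat.pow_zero]
      · simp only [f]
        rw [factorization_eq_zero_of_not_prime n.centralBinom hp, Nat.pow_zero]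
    refine this.le.trans ?_
    refine Finset.prod_le_prod_of_subset_of_one_le' (fun x hx => (Finset.mem_filter.1 hx).2) ?_
    exact fun x _ _ => hf1 x
  have h1 : ∏ x ∈ S ∪ T, f x ≤ (∏ x ∈ S, f x) * ∏ x ∈ T, f x := by
    rw [← Finset.prod_union_inter]
    exact Nat.le_mul_of_pos_right _ (Finset.prod_pos fun x _ => hf1 x)
  have h2 : ∏ x ∈ T, f x ≤ (2 * n) ^ 3 := by
    refine (Finset.prod_le_prod' fun p _ => (?_ : f p ≤ 2 * n)).trans ?_
    · exact pow_factorization_choose_le (mul_pos two_pos n_pos)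
    rw [Finset.prod_const]
    exact pow_right_mono₀ n2_pos hTc
  have h3 : ∏ x ∈ S, f x ≤ (2 * n) ^ sqrt (2 * n) * 4 ^ (2 * n / 3) := by
    rw [← Finset.prod_filter_mul_prod_filter_not S (· ≤ sqrt (2 * n))]
    apply mul_le_mul'
    · refine (Finset.prod_le_prod' fun p _ => (?_ : f p ≤ 2 * n)).trans ?_
      · exact pow_factorization_choose_le (mul_pos two_pos n_pos)
      have : (Finset.Icc 1 (sqrt (2 * n))).card = sqrt (2 * n) := by
        rw [card_Icc, Nat.add_sub_cancel]
      rw [Finset.prod_const]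
      refine pow_right_mono₀ n2_pos ((Finset.card_le_card fun x hx => ?_).trans this.le)
      obtain ⟨h1, h2⟩ := Finset.mem_filter.1 hx
      exact Finset.mem_Icc.mpr ⟨(Finset.mem_filter.1 h1).2.one_lt.le, h2⟩
    · refine le_trans ?_ (primorial_le_four_pow (2 * n / 3))
      refine (Finset.prod_le_prod' fun p hp => (?_ : f p ≤ p)).trans ?_
      · obtain ⟨h1, h2⟩ := Finset.mem_filter.1 hp
        refine (pow_right_mono₀ (Finset.mem_filter.1 h1).2.one_lt.le ?_).trans (pow_one p).le
        exact Nat.factorization_choose_le_one (sqrt_lt'.mp <| not_le.1 h2)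
      refine Finset.prod_le_prod_of_subset_of_one_le' (Finset.filter_subset _ _) ?_
      exact fun p hp _ => (Finset.mem_filter.1 hp).2.one_lt.le
  calc centralBinom n ≤ (∏ x ∈ S, f x) * ∏ x ∈ T, f x := h0.trans h1
    _ ≤ ((2 * n) ^ sqrt (2 * n) * 4 ^ (2 * n / 3)) * (2 * n) ^ 3 := Nat.mul_le_mul h3 h2
    _ = _ := by ring

theorem exists_two_primes_large (n : ℕ) (hn : 882 ≤ n) :
    ∃ p q : ℕ, p.Prime ∧ q.Prime ∧ n < p ∧ p + 3 ≤ q ∧ q ≤ 2 * n := by
  by_contra hc
  push Not at hc
  have hex : ∃ p : ℕ, p.Prime ∧ n < p := by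
    obtain ⟨p, h1, h2⟩ := Nat.exists_infinite_primes (n + 1)
    exact ⟨p, h2, h1⟩
  classical
  let p := Nat.find hex
  have hp := Nat.find_spec hex
  have h1 := centralBinom_le_of_few_primes n (by omega) (Finset.Ico p (p + 3)) (fun q hq h1 h2 => by
    rw [Finset.mem_Ico]
    refine ⟨Nat.find_min' hex ⟨hq, h1⟩, ?_⟩
    by_contra h3
    have := hc p q hp.1 hq hp.2 (by omega)
    omega) (by simp)
  have h2 := Nat.four_pow_lt_mul_centralBinom n (by omega)
  have h3 := two_primes_main_ineq n hn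
  have h4 := Nat.mul_le_mul_left n h1
  omega

/-- For `m ≥ 17` there are primes `p, q` with `m < 2p`, `p + 3 ≤ q ≤ m`. -/
theorem exists_two_primes (m : ℕ) (hm : 17 ≤ m) :
    ∃ p q : ℕ, p.Prime ∧ q.Prime ∧ m < 2 * p ∧ p + 3 ≤ q ∧ q ≤ m := by
  by_cases h1 : m < 26
  · exact ⟨13, 17, by norm_num, by norm_num, by omega, by omega, by omega⟩
  by_cases h2 : m < 38
  · exact ⟨19, 23, by norm_num, by norm_num, by omega, by omega, by omega⟩
  by_cases h3 : m < 62
  · exact ⟨31, 37, by norm_num, by norm_num, by omega, by omega, by omega⟩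
  by_cases h4 : m < 106
  · exact ⟨53, 59, by norm_num, by norm_num, by omega, by omega, by omega⟩
  by_cases h5 : m < 194
  · exact ⟨97, 101, by norm_num, by norm_num, by omega, by omega, by omega⟩
  by_cases h6 : m < 362
  · exact ⟨181, 191, by norm_num, by norm_num, by omega, by omega, by omega⟩
  by_cases h7 : m < 706
  · exact ⟨353, 359, by norm_num, by norm_num, by omega, by omega, by omega⟩
  by_cases h8 : m < 1382
  · exact ⟨691, 701, by norm_num, by norm_num, by omega, by omega, by omega⟩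
  by_cases h9 : m < 2746
  · exact ⟨1373, 1381, by norm_num, by norm_num, by omega, by omega, by omega⟩
  obtain ⟨p, q, hp, hq, h10, h11, h12⟩ := exists_two_primes_large (m / 2) (by omega)
  exact ⟨p, q, hp, hq, by omega, h11, by omega⟩

end Cfsg.Agent.H81
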